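import Mathlib
import Cfsg.Agent.Lib.Transfer.NormalSteps
import Cfsg.Agent.Lib.Fus.CaminaPairBasic

/-!
# Involutory automorphisms of 2-groups with few fixed points: basic lemmas
-/

set_option autoImplicit false

namespace Cfsg.Agent.Invol.CycFour

open Subgroup

variable {W : Type*} [Group W]

/-- The map `x ↦ x⁻¹ x^t`. -/
def twist (t x : W) : W := x⁻¹ * (t * x * t)

variable {t : W}

theorem twist_eq_one_iff (ht : t * t = 1) {x : W} : twist t x = 1 ↔ t * x = x * t := by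
  rw [twist, inv_mul_eq_one]
  constructor
  · intro h
    conv_rhs => rw [h, mul_assoc, ht, mul_one]
  · intro h
    rw [h, mul_assoc, ht, mul_one]

theorem twist_mul (ht : t * t = 1) (x y : W) :
    twist t (x * y) = y⁻¹ * twist t x * (t * y * t) := by
  simp only [twist]
  calc (x * y)⁻¹ * (t * (x * y) * t) = y⁻¹ * (x⁻¹ * (t * x * (t * t) * y * t)) := by
        rw [ht]; group
    _ = _ := by group

theorem twist_inverted (ht : t * t = 1) (x : W) : t * twist t x * t = (twist t x)⁻¹ := by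
  have hti : t⁻¹ = t := inv_eq_of_mul_eq_one_right ht
  calc t * twist t x * t = t * x⁻¹ * t * x * (t * t) := by simp only [twist]; group
    _ = _ := by rw [ht, mul_one]; simp only [twist, mul_inv_rev, inv_inv, hti]; group

theorem fixed_of_twist_eq (ht : t * t = 1) {x y : W} (h : twist t x = twist t y) :
    t * (y * x⁻¹) = (y * x⁻¹) * t := by
  rw [← twist_eq_one_iff ht, twist_mul ht, ← h]
  have hti : t⁻¹ = t := inv_eq_of_mul_eq_one_right ht
  calc (x⁻¹)⁻¹ * twist t x * (t * x⁻¹ * t) = t * x * (t * t) * x⁻¹ * t := by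
        simp only [twist]; group
    _ = 1 := by rw [ht]; simp only [mul_one, mul_inv_cancel_right, ht]

/-- An involution inverted by `t` is fixed. -/
theorem fixed_of_inverted (ht : t * t = 1) {x : W} (hx : x * x = 1) (h : t * x * t = x⁻¹) :
    t * x = x * t := by
  rw [inv_eq_of_mul_eq_one_right hx] at h
  conv_rhs => rw [← h, mul_assoc, ht, mul_one]

/-- The fibres of `twist` on `S` have at most as many elements as the fixed points. -/
theorem card_le_mul_of_twist [Finite W] (ht : t * t = 1) (S R : Subgroup W) (I : Set W)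
    (hR : ∀ x ∈ S, t * x = x * t → x ∈ R) (hI : ∀ x ∈ S, twist t x ∈ I) :
    Nat.card S ≤ Nat.card R * Nat.card I := by
  classical
  have hex : ∀ i : I, ∃ s : W, (∃ x ∈ S, twist t x = i) → s ∈ S ∧ twist t s = i := by
    intro i
    by_cases h : ∃ x ∈ S, twist t x = i
    · obtain ⟨x, hx, e⟩ := h
      exact ⟨x, fun _ => ⟨hx, e⟩⟩
    · exact ⟨1, fun h' => absurd h' h⟩
  choose s hs using hex
  have hs' : ∀ x : S, s ⟨twist t x, hI x x.2⟩ ∈ S ∧ twist t (s ⟨twist t x, hI x x.2⟩) = twist t x :=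
    fun x => hs _ ⟨x, x.2, rfl⟩
  let F : S → R × I := fun x =>
    (⟨(x : W) * (s ⟨twist t x, hI x x.2⟩)⁻¹, hR _ (S.mul_mem x.2 (S.inv_mem (hs' x).1))
      (fixed_of_twist_eq ht (hs' x).2)⟩, ⟨twist t x, hI x x.2⟩)
  have hF : Function.Injective F := by
    intro x y e
    have e2 : twist t (x : W) = twist t (y : W) := congrArg (fun p : R × I => (p.2 : W)) e
    have e1 : (x : W) * (s ⟨twist t x, hI x x.2⟩)⁻¹ = (y : W) * (s ⟨twist t y, hI y y.2⟩)⁻¹ :=
      congrArg (fun p : R × I => (p.1 : W)) e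
    have e3 : s ⟨twist t x, hI x x.2⟩ = s ⟨twist t y, hI y y.2⟩ := congrArg s (Subtype.ext e2)
    rw [e3] at e1
    exact Subtype.ext (mul_right_cancel e1)
  calc Nat.card S ≤ Nat.card (R × I) := Nat.card_le_card_of_injective F hF
    _ = _ := Nat.card_prod _ _

theorem conj_sq (p x : W) : p * (x * x) * p⁻¹ = (p * x * p⁻¹) * (p * x * p⁻¹) := by group

/-- A normal step with central quotient of exponent two. -/
theorem exists_step [Finite W] (hW : IsPGroup 2 W) {M N : Subgroup W} [M.Normal] [N.Normal]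
    (h : M < N) : ∃ x ∈ N, x ∉ M ∧ x * x ∈ M ∧ ∀ g : W, g * x * g⁻¹ * x⁻¹ ∈ M := by
  haveI : Fact (Nat.Prime 2) := ⟨Nat.prime_two⟩
  obtain ⟨K, hKn, hMK, hKN, hKc, hcomm⟩ := Transfer.NormalSteps.exists_normal_step hW h
  obtain ⟨x, hxK, hxM⟩ := SetLike.exists_of_lt hMK
  refine ⟨x, hKN hxK, hxM, ?_, fun g => by simpa [commutatorElement_def] using hcomm g x hxK⟩
  have hi : (M.subgroupOf K).index = 2 := by
    have h1 := Subgroup.card_mul_index (M.subgroupOf K)
    rw [Nat.card_congr (Subgroup.subgroupOfEquivOfLe hMK.le).toEquiv, hKc, mul_comm 2] at h1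
    exact Nat.eq_of_mul_eq_mul_left Nat.card_pos h1
  exact Subgroup.mul_self_mem_of_index_two hi (⟨x, hxK⟩ : K)

/-- A maximal normal abelian subgroup inside a normal subgroup is its own centraliser there. -/
theorem exists_max_abelian [Finite W] (hW : IsPGroup 2 W) (H : Subgroup W) [H.Normal] :
    ∃ B : Subgroup W, B.Normal ∧ B ≤ H ∧ (∀ a ∈ B, ∀ b ∈ B, a * b = b * a) ∧
      ∀ x ∈ H, (∀ b ∈ B, x * b = b * x) → x ∈ B := by
  haveI : Fact (Nat.Prime 2) := ⟨Nat.prime_two⟩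
  haveI : Nonempty {B : Subgroup W // B.Normal ∧ B ≤ H ∧ ∀ a ∈ B, ∀ b ∈ B, a * b = b * a} :=
    ⟨⟨⊥, inferInstance, bot_le, fun a ha b hb => by
      rw [mem_bot.1 ha, mem_bot.1 hb]⟩⟩
  obtain ⟨⟨B, hBn, hBH, hBc⟩, hmax⟩ := Finite.exists_max
    (fun B : {B : Subgroup W // B.Normal ∧ B ≤ H ∧ ∀ a ∈ B, ∀ b ∈ B, a * b = b * a} => Nat.card B.1)
  haveI := hBn
  refine ⟨B, hBn, hBH, hBc, fun x hx hxB => ?_⟩
  by_contra hxn
  let Z := H ⊓ centralizer (B : Set W)
  have hlt : B < Z := lt_of_le_of_ne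
    (fun b hb => ⟨hBH hb, mem_centralizer_iff.2 fun c hc => hBc c hc b hb⟩)
    (fun e => hxn (by rw [e]; exact ⟨hx, mem_centralizer_iff.2 fun c hc => (hxB c hc).symm⟩))
  haveI : Z.Normal := inferInstanceAs (H ⊓ centralizer (B : Set W)).Normal
  obtain ⟨K, hKn, hBK, hKZ, hKc, -⟩ := Transfer.NormalSteps.exists_normal_step hW hlt
  obtain ⟨y, hyK, hyB⟩ := SetLike.exists_of_lt hBK
  have hK := Transfer.NormalSteps.eq_closure_insert hBK.le hKc hyK hyB
  have hyc : ∀ b ∈ B, y * b = b * y := fun b hb =>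
    (mem_centralizer_iff.1 (hKZ hyK).2 b hb).symm
  have hcm : ∀ a ∈ K, ∀ b ∈ K, a * b = b * a := by
    rw [hK]
    exact fun a ha b hb => congrArg Subtype.val
      ((Transfer.NormalSteps.closure_insert_comm hBc hyc).is_comm.comm ⟨a, ha⟩ ⟨b, hb⟩)
  have hle := hmax ⟨K, hKn, hKZ.trans inf_le_left, hcm⟩
  have hlt' : Nat.card B < Nat.card K := by
    rw [hKc]; have := Nat.card_pos (α := B); omega
  exact absurd (show Nat.card K ≤ Nat.card B from hle) (by omega)

/-- An abelian 2-group with at most one involution is cyclic. -/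
theorem exists_gen [Finite W] (hW : IsPGroup 2 W) {B : Subgroup W} (hB : ∀ a ∈ B, ∀ b ∈ B, a * b = b * a)
    {e : W} (he : ∀ x ∈ B, x * x = 1 → x = 1 ∨ x = e) : ∃ a, B = zpowers a := by
  haveI : Fact (Nat.Prime 2) := ⟨Nat.prime_two⟩
  letI : CommGroup ↥B := { (inferInstance : Group ↥B) with
    mul_comm := fun a b => Subtype.ext (hB a a.2 b b.2) }
  haveI : IsCyclic ↥B := Fus.isCyclic_of_unique_order_prime (q := 2) (hW.to_subgroup B) (by
    intro a b ha hb ha1
    rcases eq_or_ne b 1 with rfl | hb1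
    · exact one_mem _
    have h2 : ∀ c : B, c ^ 2 = 1 → c ≠ 1 → (c : W) = e := fun c hc hc1 =>
      (he c c.2 (by rw [← pow_two]; exact congrArg Subtype.val hc)).resolve_left
        fun h => hc1 (Subtype.ext h)
    rw [show b = a from Subtype.ext ((h2 b hb hb1).trans (h2 a ha ha1).symm)]
    exact mem_zpowers a)
  obtain ⟨g, hg⟩ := IsCyclic.exists_generator (α := ↥B)
  refine ⟨(g : W), le_antisymm (fun x hx => ?_) (zpowers_le.2 g.2)⟩
  obtain ⟨i, hi⟩ := mem_zpowers_iff.1 (hg ⟨x, hx⟩)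
  exact mem_zpowers_iff.2 ⟨i, congrArg Subtype.val hi⟩

/-- An element of order at most two in a nontrivial subgroup of a 2-group. -/
theorem exists_involution [Finite W] (hW : IsPGroup 2 W) {B : Subgroup W} (hB : B ≠ ⊥) :
    ∃ x ∈ B, x * x = 1 ∧ x ≠ 1 := by
  haveI : Fact (Nat.Prime 2) := ⟨Nat.prime_two⟩
  obtain ⟨n, hn⟩ := IsPGroup.iff_card.mp (hW.to_subgroup B)
  have hn0 : n ≠ 0 := fun h => hB (Subgroup.card_eq_one.mp (by rw [hn, h, pow_zero]))
  obtain ⟨x, hx⟩ := exists_prime_orderOf_dvd_card' (G := B) 2 (hn ▸ dvd_pow_self 2 hn0)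
  refine ⟨x, x.2, ?_, fun h => ?_⟩
  · have := congrArg Subtype.val (pow_orderOf_eq_one x)
    rw [hx, pow_two] at this
    exact this
  · rw [show x = 1 from Subtype.ext h, orderOf_one] at hx
    exact absurd hx (by omega)

/-- A normal subgroup meets the fixed points of `t`. -/
theorem exists_fixed_involution [Finite W] (hW : IsPGroup 2 W) {B : Subgroup W} [B.Normal]
    (hB : B ≠ ⊥) : ∃ x ∈ B, x * x = 1 ∧ x ≠ 1 ∧ ∀ g : W, g * x = x * g := by
  obtain ⟨x, hx, hx1, hxx, hc⟩ := exists_step hW (M := (⊥ : Subgroup W)) (N := B) (bot_lt_iff_ne_bot.2 hB)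
  refine ⟨x, hx, mem_bot.1 hxx, fun h => hx1 (h ▸ one_mem _), fun g => ?_⟩
  have := mem_bot.1 (hc g)
  rwa [mul_inv_eq_one, mul_inv_eq_iff_eq_mul] at this

end Cfsg.Agent.Invol.CycFour
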