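import Cfsg.Agent.Lib.Invol.CycFourFixed.Basic

/-!
# Involutory automorphisms of 2-groups with two fixed points
-/

set_option autoImplicit false

namespace Cfsg.Agent.Invol.CycFour

open Subgroup

variable {W : Type*} [Group W]

theorem zpow_eq_iff {a : W} {k : ℕ} (ha : orderOf a = 2 ^ k) {i j : ℤ} :
    a ^ i = a ^ j ↔ (2 : ℤ) ^ k ∣ j - i := by
  rw [← inv_mul_eq_one, ← zpow_neg, ← zpow_add, ← orderOf_dvd_iff_zpow_eq_one, ha,
    show -i + j = j - i by ring]
  push_cast
  exact Iff.rfl

theorem conj_pow_of {a g : W} {e : ℤ} (h : g * a * g⁻¹ = a ^ e) (i : ℤ) :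
    g * a ^ i * g⁻¹ = a ^ (e * i) := by rw [← conj_zpow, h, zpow_mul]

theorem t_conj {t a : W} (ht : t * t = 1) {e : ℤ} (h : t * a * t = a ^ e) (i : ℤ) :
    t * a ^ i * t = a ^ (e * i) := by
  have hti : t⁻¹ = t := inv_eq_of_mul_eq_one_right ht
  have := conj_pow_of (g := t) (a := a) (e := e) (by rw [hti]; exact h) i
  rwa [hti] at this

/-- Automorphisms of a cyclic group commute. -/
theorem twist_commute {t a x : W} (ht : t * t = 1) {e η : ℤ} (he : t * a * t = a ^ e)
    (hη : x * a * x⁻¹ = a ^ η) : twist t x * a = a * twist t x := by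
  have hti : t⁻¹ = t := inv_eq_of_mul_eq_one_right ht
  have h1 : x * (t * a * t) * x⁻¹ = t * (x * a * x⁻¹) * t := by
    rw [he, hη, conj_pow_of hη, t_conj ht he, mul_comm]
  have h2 : t * x * (t * a * t) * (x⁻¹ * t) = x * a * x⁻¹ := by
    calc t * x * (t * a * t) * (x⁻¹ * t) = t * (x * (t * a * t) * x⁻¹) * t := by group
      _ = (t * t) * (x * a * x⁻¹) * (t * t) := by rw [h1]; group
      _ = _ := by rw [ht]; group
  have h3 : twist t x * a * (twist t x)⁻¹ = a := by
    calc twist t x * a * (twist t x)⁻¹ = x⁻¹ * (t * x * (t * a * t⁻¹) * (x⁻¹ * t⁻¹)) * x := by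
          simp only [twist]; group
      _ = _ := by rw [hti, h2]; group
  exact mul_inv_eq_iff_eq_mul.1 h3

theorem exists_gen_zpow {a : W} {k : ℕ} (ha : orderOf a = 2 ^ k) {u : ℤ} (hu : Odd u) (j : ℤ) :
    ∃ i : ℤ, (a ^ u) ^ i = a ^ j := by
  have hc : IsCoprime u ((2 : ℤ) ^ k) := by
    obtain ⟨m, rfl⟩ := hu
    exact IsCoprime.pow_right ⟨1, -m, by ring⟩
  obtain ⟨p, q, hpq⟩ := hc
  refine ⟨p * j, ?_⟩
  rw [← zpow_mul, zpow_eq_iff ha]
  exact ⟨q * j, by linear_combination (-j) * hpq⟩

variable [Finite W] {t : W}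

/-- A 2-group with an involutory automorphism fixing two elements: a cyclic normal subgroup
contains all inverted elements. -/
theorem exists_cyclic (hW : IsPGroup 2 W) (ht : t * t = 1) (H : Subgroup W) [H.Normal] {e : W}
    (he : e ∈ H) (he2 : e * e = 1) (he1 : e ≠ 1)
    (hfix : ∀ x ∈ H, t * x = x * t → x = 1 ∨ x = e) :
    ∃ a ∈ H, (∀ g : W, g * a * g⁻¹ ∈ zpowers a) ∧ e ∈ zpowers a ∧
      (∀ d ∈ H, t * d * t = d⁻¹ → d ∈ zpowers a) ∧
      ∀ y ∈ H, (∀ x ∈ H, x ∈ zpowers y) → y ∈ zpowers a := by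
  have hti : t⁻¹ = t := inv_eq_of_mul_eq_one_right ht
  have hH : H ≠ ⊥ := fun h => he1 (by rw [h] at he; exact mem_bot.1 he)
  have hec : ∀ g : W, g * e = e * g := by
    obtain ⟨x, hx, hxx, hx1, hc⟩ := exists_fixed_involution hW hH
    rcases hfix x hx (hc t) with h | h
    · exact absurd h hx1
    · exact h ▸ hc
  by_cases hcyc : ∃ y ∈ H, ∀ x ∈ H, x ∈ zpowers y
  · obtain ⟨y, hy, hgen⟩ := hcyc
    exact ⟨y, hy, fun g => hgen _ (‹H.Normal›.conj_mem y hy g), hgen e he,
      fun d hd _ => hgen d hd, fun y' hy' _ => hgen y' hy'⟩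
  have hvac : ∀ a : W, ∀ y ∈ H, (∀ x ∈ H, x ∈ zpowers y) → y ∈ zpowers a :=
    fun _ y hy h => absurd ⟨y, hy, h⟩ hcyc
  obtain ⟨B, hBn, hBH, hBc, hBself⟩ := exists_max_abelian hW H
  haveI := hBn
  have heB : e ∈ B := hBself e he fun b _ => (hec b).symm
  by_cases hone : ∀ x ∈ B, x * x = 1 → x = 1 ∨ x = e
  · obtain ⟨a, ha⟩ := exists_gen hW hBc hone
    subst ha
    have haH : a ∈ H := hBH (mem_zpowers a)
    have hnorm : ∀ g : W, g * a * g⁻¹ ∈ zpowers a := fun g => hBn.conj_mem a (mem_zpowers a) g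
    refine ⟨a, haH, hnorm, heB, ?_, hvac a⟩
    haveI : Fact (Nat.Prime 2) := ⟨Nat.prime_two⟩
    obtain ⟨k, hk⟩ := IsPGroup.iff_orderOf.1 hW a
    obtain ⟨ε, hε⟩ := mem_zpowers_iff.1 (hnorm t)
    rw [hti] at hε
    have hk2 : 2 ≤ k := by
      by_contra h
      have hle : orderOf a ≤ 2 := by
        rw [hk]; calc 2 ^ k ≤ 2 ^ 1 := Nat.pow_le_pow_right two_pos (by omega)
          _ = 2 := rfl
      refine hcyc ⟨a, haH, fun x hx => hBself x hx fun b hb => ?_⟩
      have ha2 : a * a = 1 := by
        interval_cases h' : orderOf a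
        · exact absurd h' (orderOf_pos a).ne'
        · rw [orderOf_eq_one_iff.1 h', one_mul]
        · rw [← pow_two, ← h', pow_orderOf_eq_one]
      rcases hone a (mem_zpowers a) ha2 with h' | h'
      · obtain ⟨i, rfl⟩ := mem_zpowers_iff.1 hb
        rw [h', one_zpow, one_mul, mul_one]
      · obtain ⟨i, rfl⟩ := mem_zpowers_iff.1 hb
        rw [h']
        exact (Commute.zpow_right (hec x) i)
    -- the fourth-order element is not fixed
    obtain ⟨w, hw⟩ : ∃ w : ℤ, ε = 2 * w + 1 ∧ Odd w := by
      obtain ⟨q, hq⟩ : ∃ q : ℤ, (2 : ℤ) ^ k = 4 * q :=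
        ⟨2 ^ (k - 2), by rw [show (4 : ℤ) = 2 ^ 2 by norm_num, ← pow_add]; congr 1; omega⟩
      have h4 : ¬ (4 : ℤ) ∣ ε - 1 := by
        rintro ⟨m, hm⟩
        have hc2 : t * a ^ q = a ^ q * t := by
          have h1 := t_conj ht hε.symm q
          have h2 : a ^ (ε * q) = a ^ q :=
            (zpow_eq_iff hk).2 ⟨-m, by rw [hq]; linear_combination (-q) * hm⟩
          rw [h2] at h1
          calc t * a ^ q = t * a ^ q * t * t := by rw [mul_assoc _ t t, ht, mul_one]
            _ = _ := by rw [h1]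
        have hne : (a ^ q) * (a ^ q) ≠ 1 := by
          intro h
          rw [← zpow_add, show a ^ (q + q) = 1 ↔ a ^ (q + q) = a ^ (0 : ℤ) by rw [zpow_zero],
            zpow_eq_iff hk] at h
          obtain ⟨c, hc⟩ := h
          have hq0 : q ≠ 0 := fun h0 => by rw [h0, mul_zero] at hq; exact (pow_ne_zero k two_ne_zero) hq
          have : -2 = 4 * c := mul_left_cancel₀ hq0 (by linear_combination hc + c * hq)
          omega
        rcases hfix _ (zpow_mem haH q) hc2 with h | h
        · exact hne (by rw [h, one_mul])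
        · exact hne (by rw [h]; exact he2)
      have h2 : ¬ (2 : ℤ) ∣ ε := by
        rintro ⟨m, hm⟩
        have h1 := t_conj ht hε.symm (2 ^ k / 2)
        obtain ⟨q', hq'⟩ : ∃ q' : ℤ, (2 : ℤ) ^ k = 2 * q' := ⟨2 * q, by rw [hq]; ring⟩
        rw [hq', Int.mul_ediv_cancel_left _ two_ne_zero] at h1
        have h3 : a ^ (ε * q') = 1 := by
          rw [← zpow_zero a, zpow_eq_iff hk]
          exact ⟨-m, by rw [hq', hm]; ring⟩
        rw [h3] at h1
        have : a ^ q' = 1 := by
          calc a ^ q' = (t * t) * a ^ q' * (t * t) := by rw [ht]; group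
            _ = t * (t * a ^ q' * t) * t := by group
            _ = 1 := by rw [h1, mul_one, ht]
        rw [← zpow_zero a, zpow_eq_iff hk] at this
        obtain ⟨c, hc⟩ := this
        have hq0 : q' ≠ 0 := fun h0 => by rw [h0, mul_zero] at hq'; exact (pow_ne_zero k two_ne_zero) hq'
        have : -1 = 2 * c := mul_left_cancel₀ hq0 (by linear_combination hc + c * hq')
        omega
      rcases Int.emod_two_eq (ε - 1) with h0 | h0
      · refine ⟨(ε - 1) / 2, by omega, Int.odd_iff.2 ?_⟩
        omega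
      · omega
    -- elements with even twist lie in `B`
    have hkey : ∀ x ∈ H, ∀ j : ℤ, twist t x = a ^ (2 * j) → x ∈ zpowers a := by
      intro x hx j hj
      obtain ⟨i, hi⟩ := exists_gen_zpow hk hw.2 (-j)
      have h1 : twist t (x * a ^ i) = 1 := by
        rw [twist_mul ht, hj, t_conj ht hε.symm, ← zpow_neg, ← zpow_add, ← zpow_add, ← zpow_zero a,
          zpow_eq_iff hk]
        rw [← zpow_mul, zpow_eq_iff hk] at hi
        obtain ⟨c, hc⟩ := hi
        exact ⟨2 * c, by rw [hw.1]; linear_combination 2 * hc⟩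
      have h2 : x * a ^ i ∈ zpowers a := by
        rcases hfix _ (H.mul_mem hx (zpow_mem haH i)) ((twist_eq_one_iff ht).1 h1) with h | h
        · rw [h]; exact one_mem _
        · rw [h]; exact heB
      exact ((zpowers a).mul_mem_cancel_right (zpow_mem (mem_zpowers a) i)).1 h2
    have htw : ∀ x ∈ H, twist t x ∈ zpowers a := fun x hx => by
      refine hBself _ (H.mul_mem (H.inv_mem hx) ?_) fun b hb => ?_
      · have := ‹H.Normal›.conj_mem x hx t; rwa [hti] at this
      · obtain ⟨i, rfl⟩ := mem_zpowers_iff.1 hb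
        obtain ⟨η, hη⟩ := mem_zpowers_iff.1 (hnorm x)
        exact Commute.zpow_right (twist_commute ht hε.symm hη.symm) i
    intro d hd hdi
    by_contra hdn
    have hf : twist t d = (d * d)⁻¹ := by simp only [twist, hdi, mul_inv_rev]
    have hdd : d * d ∈ zpowers a := by
      have h := inv_mem (htw d hd); rw [hf, inv_inv] at h; exact h
    obtain ⟨l, hl⟩ := mem_zpowers_iff.1 hdd
    rcases Int.even_or_odd l with ⟨j, hj⟩ | hodd
    · exact hdn (hkey d hd (-j) (by rw [hf, ← hl, ← zpow_neg]; congr 1; omega))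
    -- `H` is generated by `d`
    have hBd : ∀ i : ℤ, a ^ i ∈ zpowers d := fun i => by
      obtain ⟨m, hm⟩ := exists_gen_zpow hk hodd i
      rw [← hm, hl]
      exact zpow_mem (mul_mem (mem_zpowers d) (mem_zpowers d)) m
    refine hcyc ⟨d, hd, fun x hx => ?_⟩
    obtain ⟨m, hm⟩ := mem_zpowers_iff.1 (htw x hx)
    rcases Int.even_or_odd m with ⟨j, hj⟩ | hm'
    · obtain ⟨i, rfl⟩ := mem_zpowers_iff.1 (hkey x hx j (by rw [← hm]; congr 1; omega))
      exact hBd i
    · obtain ⟨u, hu⟩ := hodd
      obtain ⟨u', hu'⟩ := hm'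
      obtain ⟨j, hj⟩ := mem_zpowers_iff.1 (hBd m)
      have hxd : x * d ∈ zpowers a := by
        refine hkey _ (H.mul_mem hx hd) (u' - u) ?_
        have hcomm : d⁻¹ * a ^ m = a ^ m * d⁻¹ := by
          rw [← hj]
          exact (((Commute.refl d).zpow_right j).inv_left).eq
        rw [twist_mul ht, ← hm, hdi, hcomm, mul_assoc, ← mul_inv_rev, ← hl, ← zpow_neg, ← zpow_add]
        congr 1; omega
      obtain ⟨i, hi⟩ := mem_zpowers_iff.1 hxd
      rw [show x = a ^ i * d⁻¹ by rw [hi, mul_inv_cancel_right]]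
      exact mul_mem (hBd i) (inv_mem (mem_zpowers d))
  push Not at hone
  obtain ⟨v, hvB, hv2, hv1, hve⟩ := hone
  have hτB : ∀ x ∈ B, t * x * t ∈ B := fun x hx => by
    have := hBn.conj_mem x hx t; rwa [hti] at this
  have hsum : ∀ x ∈ B, x * (t * x * t) = 1 ∨ x * (t * x * t) = e := by
    intro x hx
    refine hfix _ (H.mul_mem (hBH hx) (hBH (hτB x hx))) ?_
    calc t * (x * (t * x * t)) = (t * x * t) * x * t := by group
      _ = x * (t * x * t) * t := by rw [hBc _ (hτB x hx) x hx]
  have hτv : t * v * t = v * e := by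
    rcases hsum v hvB with h | h
    · rcases hfix v (hBH hvB) (fixed_of_inverted ht hv2 (eq_inv_of_mul_eq_one_right h)) with h' | h'
      · exact absurd h' hv1
      · exact absurd h' hve
    · rw [← h, ← mul_assoc, hv2, one_mul]
  have hfv : twist t v = e := by rw [twist, hτv, inv_mul_cancel_left]
  -- inverted elements of `B` are fixed
  have hinv : ∀ n : ℕ, ∀ x ∈ B, t * x * t = x⁻¹ → x ^ 2 ^ n = 1 → x = 1 ∨ x = e := by
    intro n
    induction n with
    | zero => intro x _ _ hx; left; simpa using hx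
    | succ n ih =>
      intro x hx hxi hxn
      have hxx : t * (x * x) * t = (x * x)⁻¹ := by
        rw [mul_inv_rev, ← hxi]
        calc t * (x * x) * t = t * x * (t * t) * x * t := by rw [ht]; group
          _ = _ := by group
      rcases ih (x * x) (mul_mem hx hx) hxx (by rw [← pow_two, ← pow_mul, ← pow_succ']; exact hxn) with h | h
      · exact hfix x (hBH hx) (fixed_of_inverted ht h hxi)
      · exfalso
        have hfx : twist t x = e := by
          rw [twist, hxi, ← mul_inv_rev, h]
          exact inv_eq_of_mul_eq_one_right he2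
        rcases hfix _ (H.mul_mem (hBH hvB) (H.inv_mem (hBH hx)))
          (fixed_of_twist_eq ht (hfx.trans hfv.symm)) with h' | h'
        · rw [mul_inv_eq_one] at h'
          rw [← h', hv2] at h
          exact he1 h.symm
        · rw [mul_inv_eq_iff_eq_mul] at h'
          have h2 : v * v = x * x := by
            calc v * v = (e * x) * (e * x) := by rw [← h']
              _ = e * (x * e) * x := by group
              _ = e * (e * x) * x := by rw [hec x]
              _ = (e * e) * (x * x) := by group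
              _ = _ := by rw [he2, one_mul]
          rw [hv2, h] at h2
          exact he1 h2.symm
  have hinvB : ∀ x ∈ B, t * x * t = x⁻¹ → x = 1 ∨ x = e := fun x hx hxi => by
    haveI : Fact (Nat.Prime 2) := ⟨Nat.prime_two⟩
    obtain ⟨n, hn⟩ := IsPGroup.iff_orderOf.1 hW x
    exact hinv n x hx hxi (by rw [← hn, pow_orderOf_eq_one])
  have hB4 : ∀ x ∈ B, x = 1 ∨ x = e ∨ x = v ∨ x = v * e := by
    intro x hx
    rcases hsum x hx with h | h
    · rcases hinvB x hx (eq_inv_of_mul_eq_one_right h) with h' | h' <;> simp [h']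
    · have hh : (x * v) * (t * (x * v) * t) = 1 := by
        calc (x * v) * (t * (x * v) * t) = x * v * (t * x * (t * t) * v * t) := by rw [ht]; group
          _ = x * (v * (t * x * t)) * (t * v * t) := by group
          _ = x * ((t * x * t) * v) * (v * e) := by rw [hBc v hvB _ (hτB x hx), hτv]
          _ = (x * (t * x * t)) * (v * v) * e := by group
          _ = _ := by rw [h, hv2, mul_one, he2]
      have hxv : x = (x * v) * v := by rw [mul_assoc, hv2, mul_one]
      rcases hinvB _ (mul_mem hx hvB) (eq_inv_of_mul_eq_one_right hh) with h' | h'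
      · right; right; left; rw [hxv, h', one_mul]
      · right; right; right; rw [hxv, h', hec v]
  have hB2 : ∀ x ∈ B, x * x = 1 := by
    intro x hx
    rcases hB4 x hx with rfl | rfl | rfl | rfl
    · exact one_mul 1
    · exact he2
    · exact hv2
    · rw [mul_assoc, ← mul_assoc e, ← hec v, mul_assoc v e, he2, mul_one, hv2]
  by_cases hHB : H ≤ B
  · exact ⟨e, he, fun g => by rw [hec g, mul_inv_cancel_right]; exact mem_zpowers e, mem_zpowers e,
      fun d hd hdi => by rcases hinvB d (hHB hd) hdi with h | h <;> rw [h]; exacts [one_mem _, mem_zpowers e],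
      hvac e⟩
  obtain ⟨h₀, hh, hhB⟩ := SetLike.not_le_iff_exists.1 hHB
  have hconj : ∀ x ∈ H, x ∉ B → x * v * x⁻¹ = v * e := by
    intro x hx hxB
    have hmem : x * v * x⁻¹ ∈ B := hBn.conj_mem v hvB x
    rcases hB4 _ hmem with h | h | h | h
    · exact absurd (conj_eq_one_iff.1 h) hv1
    · refine absurd ?_ hve
      rw [mul_inv_eq_iff_eq_mul, ← hec x] at h
      exact mul_left_cancel h
    · refine absurd (hBself x hx fun b hb => ?_) hxB
      have hxv : x * v = v * x := mul_inv_eq_iff_eq_mul.1 h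
      rcases hB4 b hb with rfl | rfl | rfl | rfl
      · rw [mul_one, one_mul]
      · exact hec x
      · exact hxv
      · rw [← mul_assoc, hxv, mul_assoc, hec x, mul_assoc]
    · exact h
  have hcos : ∀ x ∈ H, ∀ y ∈ H, x ∉ B → y ∉ B → x * y ∈ B := by
    intro x hx y hy hxB hyB
    refine hBself _ (H.mul_mem hx hy) fun b hb => ?_
    have hxv : (x * y) * v = v * (x * y) := by
      rw [← mul_inv_eq_iff_eq_mul]
      calc x * y * v * (x * y)⁻¹ = x * (y * v * y⁻¹) * x⁻¹ := by group
        _ = (x * v * x⁻¹) * (x * e * x⁻¹) := by rw [hconj y hy hyB]; group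
        _ = v := by rw [hconj x hx hxB, hec x, mul_inv_cancel_right, mul_assoc, he2, mul_one]
    rcases hB4 b hb with rfl | rfl | rfl | rfl
    · rw [mul_one, one_mul]
    · exact hec _
    · exact hxv
    · rw [← mul_assoc, hxv, mul_assoc, hec (x * y), mul_assoc]
  -- an element of order four outside `B`
  obtain ⟨a, haH, haB, haa⟩ : ∃ a ∈ H, a ∉ B ∧ a * a = e := by
    have hvh : h₀ * v = v * e * h₀ := mul_inv_eq_iff_eq_mul.1 (hconj h₀ hh hhB)
    have hsq : h₀ * h₀ = 1 ∨ h₀ * h₀ = e := by
      rcases hB4 _ (hcos h₀ hh h₀ hh hhB hhB) with h | h | h | h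
      · exact Or.inl h
      · exact Or.inr h
      all_goals
        exfalso
        have hc : h₀ * (h₀ * h₀) * h₀⁻¹ = h₀ * h₀ := by group
        rw [h] at hc
      · rw [hconj h₀ hh hhB] at hc
        exact he1 (mul_eq_left.1 hc)
      · have : h₀ * (v * e) * h₀⁻¹ = (h₀ * v * h₀⁻¹) * (h₀ * e * h₀⁻¹) := by group
        rw [this, hconj h₀ hh hhB, hec h₀, mul_inv_cancel_right] at hc
        exact he1 (mul_eq_left.1 hc)
    rcases hsq with h | h
    · refine ⟨h₀ * v, H.mul_mem hh (hBH hvB), fun h' => hhB ((B.mul_mem_cancel_right hvB).1 h'), ?_⟩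
      calc h₀ * v * (h₀ * v) = (h₀ * v) * h₀ * v := by group
        _ = v * e * (h₀ * h₀) * v := by rw [hvh]; group
        _ = _ := by rw [h, mul_one, mul_assoc, ← mul_assoc, hec v |>.symm.symm, mul_assoc, hv2, mul_one]
    · exact ⟨h₀, hh, hhB, h⟩
  have hout : ∀ x ∈ H, x ∉ B → x * x = e → x ∈ zpowers a := by
    intro x hx hxB hxx
    have hax : a * x ∈ B := hcos a haH x hx haB hxB
    have ha3 : a⁻¹ = a * e := by
      rw [inv_eq_iff_mul_eq_one, ← mul_assoc, haa, he2]
    have hx' : x = a⁻¹ * (a * x) := by group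
    rcases hB4 _ hax with h | h | h | h
    · rw [hx', h, mul_one]; exact inv_mem (mem_zpowers a)
    · rw [hx', h]
      exact mul_mem (inv_mem (mem_zpowers a)) (by rw [← haa]; exact mul_mem (mem_zpowers a) (mem_zpowers a))
    all_goals
      exfalso
      rw [h] at hx'
      have hva : a * v = v * e * a := mul_inv_eq_iff_eq_mul.1 (hconj a haH haB)
      have hav : a * v * (a * v) = 1 := by
        calc a * v * (a * v) = (a * v) * a * v := by group
          _ = v * e * (a * a) * v := by rw [hva]; group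
          _ = _ := by rw [haa, mul_assoc v, he2, mul_one, hv2]
    · have hx'' : x = a * v * e := by rw [hx', ha3, mul_assoc, ← hec v, ← mul_assoc]
      rw [hx''] at hxx
      refine he1 (hxx.symm.trans ?_)
      calc a * v * e * (a * v * e) = a * v * (e * (a * v)) * e := by group
        _ = a * v * ((a * v) * e) * e := by rw [← hec (a * v)]
        _ = (a * v * (a * v)) * (e * e) := by group
        _ = 1 := by rw [hav, he2, one_mul]
    · have hx'' : x = a * v := by
        calc x = a * e * (v * e) := by rw [hx', ha3]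
          _ = a * (e * v) * e := by group
          _ = a * v * (e * e) := by rw [← hec v]; group
          _ = _ := by rw [he2, mul_one]
      rw [hx'', hav] at hxx
      exact he1 hxx.symm
  refine ⟨a, haH, fun g => hout _ (‹H.Normal›.conj_mem a haH g) (fun h => haB ?_) ?_,
    by rw [← haa]; exact mul_mem (mem_zpowers a) (mem_zpowers a), ?_, hvac a⟩
  · have := hBn.conj_mem _ h g⁻¹
    rwa [inv_inv, ← mul_assoc, ← mul_assoc, inv_mul_cancel, one_mul, inv_mul_cancel_right] at this
  · rw [← conj_sq, haa, hec g, mul_inv_cancel_right]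
  · intro d hd hdi
    by_cases hdB : d ∈ B
    · rcases hinvB d hdB hdi with h | h <;> rw [h]
      · exact one_mem _
      · rw [← haa]; exact mul_mem (mem_zpowers a) (mem_zpowers a)
    · refine hout d hd hdB ?_
      rcases hB4 _ (hcos d hd d hd hdB hdB) with h | h | h | h
      · refine absurd ?_ hdB
        rcases hfix d hd (fixed_of_inverted ht h hdi) with h' | h' <;> rw [h']
        exacts [B.one_mem, heB]
      · exact h
      all_goals
        exfalso
        have hc : d * (d * d) * d⁻¹ = d * d := by group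
        rw [h] at hc
      · rw [hconj d hd hdB] at hc
        exact he1 (mul_eq_left.1 hc)
      · have : d * (v * e) * d⁻¹ = (d * v * d⁻¹) * (d * e * d⁻¹) := by group
        rw [this, hconj d hd hdB, hec d, mul_inv_cancel_right] at hc
        exact he1 (mul_eq_left.1 hc)

end Cfsg.Agent.Invol.CycFour
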