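import Cfsg.Agent.Lib.Invol.CycFourFixed.Shape

/-!
# The maximal class cases
-/

set_option autoImplicit false

namespace Cfsg.Agent.Invol.CycFour

open Subgroup

variable {W : Type*} [Group W] [Finite W] {S : Subgroup W} {t r a b : W} {k : ℕ}

theorem two_mul_card_le {A B : Subgroup W} (h : A < B) : 2 * Nat.card A ≤ Nat.card B := by
  obtain ⟨c, hc⟩ := Subgroup.card_dvd_of_le h.le
  rcases (by omega : c = 0 ∨ c = 1 ∨ 2 ≤ c) with h' | h' | h'
  · rw [h', mul_zero] at hc; exact absurd hc (Nat.card_pos (α := B)).ne'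
  · rw [h', mul_one] at hc; exact absurd (Subgroup.eq_of_le_of_card_ge h.le hc.le) h.ne
  · calc 2 * Nat.card A ≤ c * Nat.card A := Nat.mul_le_mul_right _ h'
      _ = Nat.card B := by rw [hc, mul_comm]

theorem sq_mod_four {k : ℕ} {ε : ℤ} (hk : 3 ≤ k) (h2 : (2 : ℤ) ^ k ∣ ε * ε - 1) :
    (ε % 4 = 1 → (2 : ℤ) ^ k ∣ 2 * (ε - 1)) ∧ (ε % 4 = 3 → (2 : ℤ) ^ k ∣ 2 * (ε + 1)) := by
  constructor <;> intro h4
  · have hco : IsCoprime ((2 : ℤ) ^ k) (2 * (ε / 4) + 1) := IsCoprime.pow_left ⟨-(ε / 4), 1, by ring⟩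
    refine hco.dvd_of_dvd_mul_right ?_
    rw [show 2 * (ε - 1) * (2 * (ε / 4) + 1) = ε * ε - 1 by
      nth_rewrite 1 [show ε = 4 * (ε / 4) + 1 by omega]
      nth_rewrite 3 4 [show ε = 4 * (ε / 4) + 1 by omega]; ring]
    exact h2
  · have hco : IsCoprime ((2 : ℤ) ^ k) (2 * (ε / 4) + 1) := IsCoprime.pow_left ⟨-(ε / 4), 1, by ring⟩
    refine hco.dvd_of_dvd_mul_right ?_
    rw [show 2 * (ε + 1) * (2 * (ε / 4) + 1) = ε * ε - 1 by
      nth_rewrite 1 [show ε = 4 * (ε / 4) + 3 by omega]
      nth_rewrite 3 4 [show ε = 4 * (ε / 4) + 3 by omega]; ring]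
    exact h2

/-- The order eight case. -/
theorem max_two (h : Hyp S t r) (d : MaxData S a b 2) :
    ∃ (M : Subgroup W) (w : W), b ∉ M ∧ (∀ p, p ∈ M ∨ b * p ∈ M) ∧
      (∀ x ∈ S, x ∈ M → x * x = 1 → x = 1 ∨ x = r * r) ∧
      w * w = r * r ∧ w * b = b * w ∧ ∀ p : W, p * p ∈ zpowers r := by
  have h4 : orderOf a = 4 := by rw [d.ord]; norm_num
  have hba : b * a * b = a⁻¹ := by simpa using d.inv4
  have hbb := d.bb
  have hba' : ∀ i : ℤ, b * a ^ i * b = a ^ (-i) := fun i => by
    have := conj_pow_of (g := b) (a := a) (e := -1)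
      (by rw [inv_eq_of_mul_eq_one_right hbb, zpow_neg_one]; exact hba) i
    rwa [inv_eq_of_mul_eq_one_right hbb, neg_one_mul] at this
  have hrot : ∀ i : ℤ, (b * a ^ i) * (b * a ^ i) = 1 := fun i => by
    rw [show b * a ^ i * (b * a ^ i) = b * a ^ i * b * a ^ i by group, hba', ← zpow_add, neg_add_cancel, zpow_zero]
  -- `⟨a⟩ = ⟨r⟩`
  have hra : r ∈ zpowers a := by
    rcases d.cover r h.rS with e | e
    · exact e
    · exfalso
      obtain ⟨i, hi⟩ := mem_zpowers_iff.1 e
      have hr : r = b * a ^ i := by rw [hi, ← mul_assoc, hbb, one_mul]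
      exact h.r_pow.1 (by rw [hr, hrot])
  have heq : zpowers r = zpowers a :=
    Subgroup.eq_of_le_of_card_ge (zpowers_le.2 hra) (by rw [Nat.card_zpowers, Nat.card_zpowers, h4, h.r4])
  have hta : t * a = a * t := by
    obtain ⟨i, hi⟩ := mem_zpowers_iff.1 (show a ∈ zpowers r by rw [heq]; exact mem_zpowers a)
    rw [← hi]; exact (Commute.zpow_right (show Commute t r from h.tr) i).eq
  have hsq : ∀ i : ℤ, a ^ i * a ^ i = 1 ∨ a ^ i * a ^ i = r * r := by
    intro i
    rcases h.r_cases (show a ^ i ∈ zpowers r by rw [heq]; exact zpow_mem (mem_zpowers a) i) with e | e | e | e <;>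
      rw [e]
    · left; exact one_mul 1
    · right; rfl
    · left; exact h.zz
    · right; rw [show r * r * r * (r * r * r) = r * r * r * r * (r * r) by group, h.r_pow.2.1, one_mul]
  have htb : t * b * t = b * (r * r) := by
    have hmem := h.conj_mem d.bS
    rcases d.cover _ hmem with e | e
    · exfalso
      refine d.b_nmem ?_
      obtain ⟨i, hi⟩ := mem_zpowers_iff.1 e
      have e' : b = t * a ^ i * t := by
        rw [hi, show t * (t * b * t) * t = (t * t) * b * (t * t) by group, h.tt, one_mul, mul_one]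
      rw [e', (Commute.zpow_right (show Commute t a from hta) i).eq, mul_assoc, h.tt, mul_one]
      exact zpow_mem (mem_zpowers a) i
    · obtain ⟨i, hi⟩ := mem_zpowers_iff.1 e
      have e' : t * b * t = b * a ^ i := by rw [hi, ← mul_assoc, hbb, one_mul]
      have h2 : b = b * (a ^ i * a ^ i) := by
        calc b = (t * t) * b * (t * t) := by rw [h.tt]; group
          _ = t * (t * b * t) * t := by group
          _ = t * b * (a ^ i * t) := by rw [e']; group
          _ = (t * b * t) * a ^ i := by rw [← (Commute.zpow_right (show Commute t a from hta) i).eq]; group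
          _ = _ := by rw [e', mul_assoc]
      rcases hsq i with e2 | e2
      · have hmemr : a ^ i ∈ zpowers r := by rw [heq]; exact zpow_mem (mem_zpowers a) i
        rcases h.r_cases hmemr with e3 | e3 | e3 | e3
        · exfalso
          rw [e3, mul_one] at e'
          refine d.b_nmem (heq ▸ h.fix b d.bS (fixed_of_inverted h.tt hbb ?_))
          rw [e', inv_eq_of_mul_eq_one_right hbb]
        · rw [e3] at e2; exact absurd e2 h.r_pow.1
        · rw [e', e3]
        · rw [e3, show r * r * r * (r * r * r) = r * r * r * r * (r * r) by group, h.r_pow.2.1, one_mul] at e2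
          exact absurd e2 h.r_pow.1
      · rw [e2] at h2; exact absurd (left_eq_mul.1 h2) h.r_pow.1
  let M : Subgroup W :=
    { carrier := {p | p ∈ zpowers a ∨ t * p ∈ zpowers a}
      one_mem' := Or.inl (one_mem _)
      mul_mem' := by
        intro p q hp hq
        have hc : ∀ p ∈ zpowers a, t * p = p * t := fun p hp => by
          obtain ⟨i, rfl⟩ := mem_zpowers_iff.1 hp; exact (Commute.zpow_right (show Commute t a from hta) i).eq
        rcases hp with hp | hp <;> rcases hq with hq | hq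
        · exact Or.inl (mul_mem hp hq)
        · refine Or.inr ?_
          rw [← mul_assoc, hc p hp, mul_assoc]
          exact mul_mem hp hq
        · refine Or.inr ?_
          rw [← mul_assoc]
          exact mul_mem hp hq
        · refine Or.inl ?_
          have e : p * q = (t * p) * (t * q) := by
            calc p * q = (t * t) * p * q := by rw [h.tt, one_mul]
              _ = t * (t * p) * q := by group
              _ = (t * p) * t * q := by rw [hc _ hp]
              _ = _ := by group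
          rw [e]; exact mul_mem hp hq
      inv_mem' := by
        intro p hp
        rcases hp with hp | hp
        · exact Or.inl (inv_mem hp)
        · refine Or.inr ?_
          obtain ⟨i, hi⟩ := mem_zpowers_iff.1 hp
          have e : p = t * a ^ i := by rw [hi, ← mul_assoc, h.tt, one_mul]
          rw [e, mul_inv_rev, h.ti, ← mul_assoc,
            (Commute.inv_right (Commute.zpow_right (show Commute t a from hta) i)).eq, mul_assoc, h.tt, mul_one]
          exact inv_mem (zpow_mem (mem_zpowers a) i) }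
  have hM : ∀ p, p ∈ M ↔ p ∈ zpowers a ∨ t * p ∈ zpowers a := fun p => Iff.rfl
  have hza : r * r ∈ zpowers a := mul_mem hra hra
  refine ⟨M, t * r, fun hbM => ?_, fun p => ?_, fun x hx hxM hxx => ?_, ?_, ?_, ?_⟩
  · rcases (hM b).1 hbM with e | e
    · exact d.b_nmem e
    · exact h.tS (by
        have := S.mul_mem ((zpowers_le.2 d.aS) e) (S.inv_mem d.bS)
        rwa [mul_inv_cancel_right] at this)
  · rw [hM, hM]
    rcases h.out p with hp | hp
    · rcases d.cover p hp with e | e
      · exact Or.inl (Or.inl e)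
      · exact Or.inr (Or.inl e)
    · rcases d.cover _ hp with e | e
      · exact Or.inl (Or.inr e)
      · refine Or.inr (Or.inr ?_)
        have e' : t * (b * p) = b * (r * r) * (t * p) := by
          calc t * (b * p) = t * b * (t * t) * p := by rw [h.tt]; group
            _ = (t * b * t) * (t * p) := by group
            _ = _ := by rw [htb]
        rw [e', h.z_central b, mul_assoc]
        exact mul_mem hza e
  · rcases (hM x).1 hxM with e | e
    · refine h.fixed_invol hx hxx ?_
      obtain ⟨i, rfl⟩ := mem_zpowers_iff.1 e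
      exact (Commute.zpow_right (show Commute t a from hta) i).eq
    · refine absurd ?_ h.tS
      have := S.mul_mem ((zpowers_le.2 d.aS) e) (S.inv_mem hx)
      rwa [mul_inv_cancel_right] at this
  · rw [show t * r * (t * r) = t * (r * t) * r by group, ← h.tr]
    rw [show t * (t * r) * r = (t * t) * (r * r) by group, h.tt, one_mul]
  · obtain ⟨i, hi⟩ := mem_zpowers_iff.1 hra
    have hbr : b * r * b = r⁻¹ := by rw [← hi, hba', zpow_neg]
    have h1 : r * b = b * r⁻¹ := by rw [← hbr, ← mul_assoc, ← mul_assoc, hbb, one_mul]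
    have hr3 : r⁻¹ = r * (r * r) :=
      inv_eq_of_mul_eq_one_right (by rw [← mul_assoc, show r * r * (r * r) = r * r * r * r by group, h.r_pow.2.1])
    calc t * r * b = t * (r * b) := by group
      _ = t * b * (t * t) * r⁻¹ := by rw [h1, h.tt]; group
      _ = (t * b * t) * t * r⁻¹ := by group
      _ = b * ((r * r) * t) * r⁻¹ := by rw [htb]; group
      _ = b * (t * (r * r)) * r⁻¹ := by rw [h.z_central t]
      _ = b * (t * r) := by group
  · intro p
    rw [heq]
    rcases h.out p with hp | hp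
    · rcases d.cover p hp with e | e
      · exact mul_mem e e
      · obtain ⟨i, hi⟩ := mem_zpowers_iff.1 e
        have e' : p = b * a ^ i := by rw [hi, ← mul_assoc, hbb, one_mul]
        rw [e', hrot]; exact one_mem _
    · have hp' : p = t * (t * p) := by rw [← mul_assoc, h.tt, one_mul]
      rcases d.cover _ hp with e | e
      · obtain ⟨i, hi⟩ := mem_zpowers_iff.1 e
        rw [hp', ← hi, show t * a ^ i * (t * a ^ i) = t * a ^ i * t * a ^ i by group,
          (Commute.zpow_right (show Commute t a from hta) i).eq, mul_assoc _ t t, h.tt, mul_one]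
        exact mul_mem (zpow_mem (mem_zpowers a) i) (zpow_mem (mem_zpowers a) i)
      · obtain ⟨i, hi⟩ := mem_zpowers_iff.1 e
        have e' : t * p = b * a ^ i := by rw [hi, ← mul_assoc, hbb, one_mul]
        rw [hp', e']
        have : t * (b * a ^ i) * (t * (b * a ^ i)) = r * r := by
          calc t * (b * a ^ i) * (t * (b * a ^ i)) = t * b * (a ^ i * t) * (b * a ^ i) := by group
            _ = (t * b * t) * a ^ i * (b * a ^ i) := by
                rw [← (Commute.zpow_right (show Commute t a from hta) i).eq]; group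
            _ = ((r * r) * b) * a ^ i * (b * a ^ i) := by rw [htb, h.z_central b]
            _ = (r * r) * ((b * a ^ i) * (b * a ^ i)) := by group
            _ = _ := by rw [hrot, mul_one]
        rw [this]; exact hza

/-- The case of order at least sixteen. -/
theorem max_ge_three (h : Hyp S t r) (d : MaxData S a b k) (hk : 3 ≤ k) :
    ∃ (M : Subgroup W) (c w : W), t ∉ M ∧ c ∉ M ∧ (∀ p, p ∈ M ∨ c * p ∈ M) ∧
      (∀ x, x ∉ S → x ∉ M → x * x = 1 → ∃ g : W, g * t * g⁻¹ = x) ∧
      w ∉ S ∧ w * w = 1 ∧ ∃ Q : Subgroup W, 16 ≤ Nat.card Q ∧ ∀ x ∈ Q, x * w = w * x := by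
  haveI := h.norm
  have ho := d.ord
  have hbb := d.bb
  have hbi : b⁻¹ = b := inv_eq_of_mul_eq_one_right hbb
  obtain ⟨q, hq, hqn⟩ : ∃ q : ℤ, (2 : ℤ) ^ k = 4 * q ∧ ((2 ^ (k - 2) : ℕ) : ℤ) = q :=
    ⟨2 ^ (k - 2), by rw [show (4 : ℤ) = 2 ^ 2 by norm_num, ← pow_add]; congr 1; omega, by push_cast; rfl⟩
  obtain ⟨q', hq'⟩ : ∃ q' : ℤ, q = 2 * q' :=
    ⟨2 ^ (k - 3), by rw [← hqn]; push_cast; rw [← pow_succ']; congr 1; omega⟩
  have hq0 : q ≠ 0 := fun h0 => by rw [h0, mul_zero] at hq; exact (pow_ne_zero k two_ne_zero) hq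
  obtain ⟨ε, hε⟩ := mem_zpowers_iff.1 (d.anorm t)
  rw [h.ti] at hε
  obtain ⟨η, hη⟩ := mem_zpowers_iff.1 (d.anorm b)
  rw [hbi] at hη
  have hca : ∀ i : ℤ, t * a ^ i * t = a ^ (ε * i) := t_conj h.tt hε.symm
  have hcb : ∀ i : ℤ, b * a ^ i * b = a ^ (η * i) := t_conj hbb hη.symm
  have hsq2 : ∀ {u : W} {e : ℤ}, u * u = 1 → u * a * u = a ^ e → (2 : ℤ) ^ k ∣ e * e - 1 := by
    intro u e huu hue
    have h1 : u * (u * a * u) * u = a := by
      rw [show u * (u * a * u) * u = (u * u) * a * (u * u) by group, huu, one_mul, mul_one]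
    rw [hue, t_conj huu hue] at h1
    conv_rhs at h1 => rw [← zpow_one a]
    obtain ⟨c, hc⟩ := (zpow_eq_iff ho).1 h1
    exact ⟨-c, by linear_combination -hc⟩
  have hzero : ∀ i : ℤ, a ^ i = 1 ↔ (2 : ℤ) ^ k ∣ i := fun i => by
    rw [← zpow_zero a, zpow_eq_iff ho, zero_sub, dvd_neg]
  have hqi : ∀ i : ℤ, (2 : ℤ) ^ k ∣ q * i ↔ 4 ∣ i := fun i => by
    rw [hq, mul_comm 4 q]; exact mul_dvd_mul_iff_left hq0
  have hodd : ∀ {u : W} {e : ℤ}, u * u = 1 → u * a * u = a ^ e → e % 4 = 1 ∨ e % 4 = 3 := by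
    intro u e huu hue
    obtain ⟨c, hc⟩ := hsq2 huu hue
    rw [hq] at hc
    rcases Int.even_or_odd e with ⟨m, hm⟩ | ⟨m, hm⟩
    · subst hm
      have : (m + m) * (m + m) - 1 = 2 * (2 * q * c) := by rw [hc]; ring
      have h2 : (m + m) * (m + m) = 2 * (2 * (m * m)) := by ring
      omega
    · omega
  have hη3 : η % 4 = 3 := by
    refine (hodd hbb hη.symm).resolve_left fun h1 => ?_
    have h2 := d.inv4
    rw [← zpow_natCast, hqn, hcb, ← zpow_neg, zpow_eq_iff ho, show -q - η * q = q * -(η + 1) by ring, hqi] at h2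
    omega
  -- the fourth-order element is not fixed by `t`
  have hε3 : ε % 4 = 3 := by
    refine (hodd h.tt hε.symm).resolve_left fun h1 => ?_
    obtain ⟨c, hc⟩ : ∃ c, ε - 1 = 4 * c := ⟨ε / 4, by omega⟩
    have hcfix : t * a ^ q = a ^ q * t := by
      have e1 : t * a ^ q * t = a ^ q := by
        rw [hca, zpow_eq_iff ho, show q - ε * q = q * -(ε - 1) by ring, hqi]; omega
      conv_rhs => rw [← e1, mul_assoc, h.tt, mul_one]
    have hmem := h.fix _ (zpow_mem d.aS q) hcfix
    have hra : r ∈ zpowers a := by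
      rcases h.r_cases hmem with e | e | e | e
      · rw [← mul_one q, hzero, hqi] at e; omega
      · rw [← e]; exact zpow_mem (mem_zpowers a) q
      · exfalso
        have e2 : a ^ (q + q) = 1 := by rw [zpow_add, e]; exact h.zz
        rw [← two_mul, mul_comm, hzero, hqi] at e2; omega
      · have er : r = (r * r * r)⁻¹ := eq_inv_of_mul_eq_one_right h.r_pow.2.1
        rw [er, ← e]; exact inv_mem (zpow_mem (mem_zpowers a) q)
    have hd2 := (sq_mod_four hk (hsq2 h.tt hε.symm)).1 h1
    have h2fix : t * a ^ (2 : ℤ) = a ^ (2 : ℤ) * t := by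
      have e1 : t * a ^ (2 : ℤ) * t = a ^ (2 : ℤ) := by
        rw [hca, zpow_eq_iff ho, show (2 : ℤ) - ε * 2 = -(2 * (ε - 1)) by ring, dvd_neg]; exact hd2
      conv_rhs => rw [← e1, mul_assoc, h.tt, mul_one]
    have hk3 : k = 3 := by
      have hm2 := h.fix _ (zpow_mem d.aS 2) h2fix
      have h8 : a ^ (8 : ℤ) = 1 := by
        have h4 : (a ^ (2 : ℤ)) ^ (4 : ℤ) = 1 := by
          obtain ⟨i, hi⟩ := mem_zpowers_iff.1 hm2
          rw [← hi, ← zpow_mul, mul_comm, zpow_mul]
          rw [show r ^ (4 : ℤ) = 1 by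
            rw [show (4 : ℤ) = ((4 : ℕ) : ℤ) by norm_num, zpow_natCast, ← h.r4, pow_orderOf_eq_one], one_zpow]
        rwa [← zpow_mul] at h4
      rw [hzero] at h8
      have : (2 : ℤ) ^ k ≤ 2 ^ 3 := by
        have := Int.le_of_dvd (by norm_num) h8; linarith
      have := (pow_le_pow_iff_right₀ (by norm_num : (1 : ℤ) < 2)).1 this
      omega
    subst hk3
    have hafix : ¬ (t * a = a * t) := fun e => by
      have hm := h.fix a d.aS e
      obtain ⟨i, hi⟩ := mem_zpowers_iff.1 hm
      have h4 : a ^ 4 = 1 := by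
        rw [← hi, ← zpow_natCast, ← zpow_mul, mul_comm, zpow_mul, zpow_natCast,
          show r ^ 4 = 1 by rw [← h.r4, pow_orderOf_eq_one], one_zpow]
      have := orderOf_dvd_of_pow_eq_one h4
      rw [ho] at this; norm_num at this
    -- conjugate of `b`
    obtain ⟨j, hj⟩ : ∃ j : ℤ, t * b * t = b * a ^ j := by
      rcases d.cover _ (h.conj_mem d.bS) with e | e
      · exfalso
        obtain ⟨i, hi⟩ := mem_zpowers_iff.1 e
        refine d.b_nmem ?_
        have e' : b = t * a ^ i * t := by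
          rw [hi, show t * (t * b * t) * t = (t * t) * b * (t * t) by group, h.tt, one_mul, mul_one]
        rw [e', hca]; exact zpow_mem (mem_zpowers a) _
      · obtain ⟨i, hi⟩ := mem_zpowers_iff.1 e
        exact ⟨i, by rw [hi, ← mul_assoc, hbb, one_mul]⟩
    have e2 : a ^ (j + ε * j) = 1 := by
      have hh : b = b * a ^ (j + ε * j) := by
        calc b = (t * t) * b * (t * t) := by rw [h.tt]; group
          _ = t * (t * b * t) * t := by group
          _ = t * b * (t * t) * a ^ j * t := by rw [hj, h.tt]; group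
          _ = (t * b * t) * (t * a ^ j * t) := by group
          _ = _ := by rw [hj, hca, mul_assoc, ← zpow_add]
      exact left_eq_mul.1 hh
    rw [hzero] at e2
    have hj4 : (4 : ℤ) ∣ j := by
      obtain ⟨m, hm⟩ := e2
      have : 2 * ((2 * c + 1) * j) = 2 * (4 * m) := by linear_combination hm - j * hc
      have h4 : (4 : ℤ) ∣ (2 * c + 1) * j := ⟨m, mul_left_cancel₀ two_ne_zero this⟩
      have h2 : IsCoprime (2 : ℤ) (2 * c + 1) := ⟨-c, 1, by ring⟩
      have h22 : IsCoprime (4 : ℤ) (2 * c + 1) := by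
        rw [show (4 : ℤ) = 2 ^ 2 by norm_num]; exact h2.pow_left
      exact h22.dvd_of_dvd_mul_left h4
    have hc2 : ¬ (2 : ℤ) ∣ c := by
      rintro ⟨u, hu⟩
      refine hafix ?_
      have e1 : t * a * t = a := by
        rw [← hε]; conv_rhs => rw [← zpow_one a]
        rw [zpow_eq_iff ho]; exact ⟨-u, by rw [show ε = 4 * c + 1 by omega, hu]; ring⟩
      conv_rhs => rw [← e1, mul_assoc, h.tt, mul_one]
    have hbnr : b ∉ zpowers r := fun e => d.b_nmem ((zpowers_le.2 hra) e)
    rcases (by omega : (8 : ℤ) ∣ j ∨ (8 : ℤ) ∣ j - 4) with hj8 | hj8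
    · refine hbnr (h.fix b d.bS ?_)
      have e1 : t * b * t = b := by
        rw [hj, show a ^ j = 1 from (hzero j).2 (by norm_num; exact hj8), mul_one]
      conv_rhs => rw [← e1, mul_assoc, h.tt, mul_one]
    · have e1 : t * (b * a) * t = b * a := by
        calc t * (b * a) * t = t * b * (t * t) * a * t := by rw [h.tt]; group
          _ = (t * b * t) * (t * a * t) := by group
          _ = b * a ^ (j + ε) := by rw [hj, ← hε, zpow_add]; group
          _ = b * a := by
              congr 1; conv_rhs => rw [← zpow_one a]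
              rw [zpow_eq_iff ho]; norm_num; omega
      have hba := h.fix _ (mul_mem d.bS d.aS) (by conv_rhs => rw [← e1, mul_assoc, h.tt, mul_one])
      exact d.b_nmem (((zpowers a).mul_mem_cancel_right (mem_zpowers a)).1 ((zpowers_le.2 hra) hba))
  have hdε := (sq_mod_four hk (hsq2 h.tt hε.symm)).2 hε3
  have hdη := (sq_mod_four hk (hsq2 hbb hη.symm)).2 hη3
  -- `r` outside `⟨a⟩`
  have hrn : r ∉ zpowers a := fun hm => by
    obtain ⟨i, hi⟩ := mem_zpowers_iff.1 hm
    have e1 : t * a ^ i * t = a ^ i := by rw [hi, h.tr, mul_assoc, h.tt, mul_one]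
    rw [hca, zpow_eq_iff ho] at e1
    refine h.r_pow.1 ?_
    rw [← hi, ← zpow_add, hzero]
    have hco : IsCoprime ((2 : ℤ) ^ k) (2 * (ε / 4) + 1) := IsCoprime.pow_left ⟨-(ε / 4), 1, by ring⟩
    refine hco.dvd_of_dvd_mul_right ?_
    rw [show (i + i) * (2 * (ε / 4) + 1) = -(i - ε * i) by
      nth_rewrite 2 [show ε = 4 * (ε / 4) + 3 by omega]; ring]
    exact dvd_neg.2 e1
  obtain ⟨i, hi⟩ := mem_zpowers_iff.1 ((d.cover r h.rS).resolve_left hrn)
  have hr : r = b * a ^ i := by rw [hi, ← mul_assoc, hbb, one_mul]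
  have hrr : r * r = a ^ ((η + 1) * i) := by
    rw [hr, show b * a ^ i * (b * a ^ i) = b * a ^ i * b * a ^ i by group, hcb, ← zpow_add]; congr 1; ring
  have hiodd : Odd i := by
    rcases Int.even_or_odd i with ⟨u, hu⟩ | ho'
    · refine absurd ?_ h.r_pow.1
      rw [hrr, hzero, hu, show (η + 1) * (u + u) = 2 * (η + 1) * u by ring]
      exact hdη.mul_right u
    · exact ho'
  have hri : r⁻¹ * a * r = a ^ η := by
    rw [hr, mul_inv_rev, hbi, show (a ^ i)⁻¹ * b * a * (b * a ^ i) = (a ^ i)⁻¹ * (b * a * b) * a ^ i by group,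
      ← hη]; group
  have hcr : ∀ m : ℤ, r⁻¹ * a ^ m * r = a ^ (η * m) := fun m => by
    have := conj_pow_of (g := r⁻¹) (a := a) (e := η) (by rw [inv_inv]; exact hri) m
    rwa [inv_inv] at this
  have hcr' : ∀ m : ℤ, r * a ^ m * r⁻¹ = a ^ (η * m) := fun m => by
    rw [hr, mul_inv_rev, hbi, show b * a ^ i * a ^ m * ((a ^ i)⁻¹ * b) = b * a ^ m * b by group, hcb]
  -- the quotient modulo `⟨a²⟩`
  let K : Subgroup W := zpowers (a ^ (2 : ℤ))
  haveI hK : K.Normal := ⟨fun x hx g => by
    obtain ⟨m, rfl⟩ := mem_zpowers_iff.1 hx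
    obtain ⟨e, he⟩ := mem_zpowers_iff.1 (d.anorm g)
    rw [← zpow_mul, conj_pow_of he.symm, show e * (2 * m) = 2 * (e * m) by ring, zpow_mul]
    exact zpow_mem (mem_zpowers _) _⟩
  have hKa : ∀ m : ℤ, a ^ m ∈ K ↔ Even m := by
    intro m
    constructor
    · intro hm
      obtain ⟨l, hl⟩ := mem_zpowers_iff.1 hm
      rw [← zpow_mul, zpow_eq_iff ho, hq] at hl
      obtain ⟨c, hc⟩ := hl
      exact ⟨l + 2 * q * c, by linear_combination hc⟩
    · rintro ⟨u, rfl⟩
      rw [← two_mul, zpow_mul]; exact zpow_mem (mem_zpowers _) _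
  have hKle : K ≤ zpowers a := zpowers_le.2 (zpow_mem (mem_zpowers a) 2)
  have hKS : K ≤ S := hKle.trans (zpowers_le.2 d.aS)
  let π : W →* W ⧸ K := QuotientGroup.mk' K
  have hπ : ∀ {x : W}, π x = 1 ↔ x ∈ K := fun {x} => QuotientGroup.eq_one_iff x
  have hAA : π a * π a = 1 := by
    rw [← map_mul, hπ, show a * a = a ^ (2 : ℤ) by rw [zpow_two]]; exact mem_zpowers _
  have hTT : π t * π t = 1 := by rw [← map_mul, h.tt, map_one]
  have hRR : π r * π r = 1 := by
    rw [← map_mul, hπ, hrr, hKa]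
    exact Even.mul_right (by rw [Int.even_iff]; omega) i
  have hAT : π t * π a = π a * π t := by
    have e1 : π (t * a * t) = π a := by
      rw [← hε, show a ^ ε = a ^ (ε - 1) * a by rw [← zpow_add_one]; congr 1; ring, map_mul,
        hπ.2 ((hKa _).2 (by rw [Int.even_iff]; omega)), one_mul]
    rw [map_mul, map_mul] at e1
    calc π t * π a = π t * π a * π t * π t := by rw [mul_assoc _ (π t) (π t), hTT, mul_one]
      _ = _ := by rw [e1]
  have hTR : π t * π r = π r * π t := by rw [← map_mul, ← map_mul, h.tr]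
  have hRA : π r * π a = π a * π r := by
    have e1 : π (r⁻¹ * a * r) = π a := by
      rw [hri, show a ^ η = a ^ (η - 1) * a by rw [← zpow_add_one]; congr 1; ring, map_mul,
        hπ.2 ((hKa _).2 (by rw [Int.even_iff]; omega)), one_mul]
    rw [map_mul, map_mul, map_inv] at e1
    calc π r * π a = π r * ((π r)⁻¹ * π a * π r) := by rw [e1]
      _ = _ := by group
  have cAT : Commute (π t) (π a) := hAT
  have cTR : Commute (π t) (π r) := hTR
  have cRA : Commute (π r) (π a) := hRA
  have hx2 : π t * π a * (π t * π a) = 1 := by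
    rw [← cAT.mul_mul_mul_comm (π t) (π a), hTT, hAA, one_mul] <;> exact cAT
  have hy2 : π r * π a * (π r * π a) = 1 := by
    calc π r * π a * (π r * π a) = π r * (π a * π r) * π a := by group
      _ = (π r * π r) * (π a * π a) := by rw [← hRA]; group
      _ = 1 := by rw [hRR, hAA, one_mul]
  have hxy : π r * π a * (π t * π a) = π t * π a * (π r * π a) :=
    ((cTR.symm.mul_right cRA).mul_left (cAT.symm.mul_right (Commute.refl (π a)))).eq
  let V : Subgroup (W ⧸ K) := fourGroup (π t * π a) (π r * π a) hx2 hy2 hxy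
  let M : Subgroup W := V.comap π
  have hM : ∀ p, p ∈ M ↔
      π p = 1 ∨ π p = π t * π a ∨ π p = π r * π a ∨ π p = π r * π a * (π t * π a) := fun p => Iff.rfl
  have hS4 : ∀ s ∈ S, (∃ m : ℤ, s = a ^ m) ∨ ∃ m : ℤ, s = r * a ^ m := by
    intro s hs
    rcases d.cover s hs with e | e <;> obtain ⟨m, hm⟩ := mem_zpowers_iff.1 e
    · exact Or.inl ⟨m, hm.symm⟩
    · refine Or.inr ⟨-i + m, ?_⟩
      rw [hr, zpow_add, ← mul_assoc, mul_assoc b (a ^ i), ← zpow_add, add_neg_cancel, zpow_zero,
        mul_one, hm, ← mul_assoc, hbb, one_mul]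
  have hA1 : π a ≠ 1 := fun e => by
    rw [hπ] at e
    have := (hKa 1).1 (by rwa [zpow_one])
    rw [Int.even_iff] at this; omega
  have hR1 : π r ≠ 1 := fun e => hrn (hKle (hπ.1 e))
  have hTS : ∀ x ∈ S, π t ≠ π x := fun x hx e => by
    have : t * x⁻¹ ∈ K := hπ.1 (by rw [map_mul, map_inv, e, mul_inv_cancel])
    exact h.tS (by simpa using S.mul_mem (hKS this) hx)
  have hpow : ∀ m : ℤ, (Even m → π (a ^ m) = 1) ∧ (Odd m → π (a ^ m) = π a) := fun m =>
    ⟨fun hm => hπ.2 ((hKa m).2 hm), fun hm => by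
      rw [show a ^ m = a ^ (m - 1) * a by rw [← zpow_add_one]; congr 1; ring, map_mul,
        hπ.2 ((hKa _).2 (hm.sub_odd odd_one)), one_mul]⟩
  have hyx : π r * π a * (π t * π a) = π t * π r := by
    calc π r * π a * (π t * π a) = π r * (π a * π t) * π a := by group
      _ = (π r * π t) * (π a * π a) := by rw [← hAT]; group
      _ = _ := by rw [hAA, mul_one, hTR]
  have hAnM : a ∉ M := fun hm => by
    rcases (hM a).1 hm with e | e | e | e
    · exact hA1 e
    · exact hTS 1 S.one_mem (by rw [map_one]; exact right_eq_mul.1 e)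
    · exact hR1 (right_eq_mul.1 e)
    · rw [hyx] at e
      refine hTS (a * r⁻¹) (mul_mem d.aS (inv_mem h.rS)) ?_
      rw [map_mul, map_inv, e, mul_inv_cancel_right]
  have htM : t ∉ M := fun hm => by
    rcases (hM t).1 hm with e | e | e | e
    · exact hTS 1 S.one_mem (by rw [map_one]; exact e)
    · exact hA1 (left_eq_mul.1 e)
    · exact hTS (r * a) (mul_mem h.rS d.aS) (by rw [map_mul]; exact e)
    · rw [hyx] at e; exact hR1 (left_eq_mul.1 e)
  -- the elements of order four
  obtain ⟨c, hc⟩ : ∃ c : W, c = a ^ q := ⟨_, rfl⟩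
  have hcc : c * c = r * r := by
    have hin : a ^ ((η + 1) * i) * a ^ ((η + 1) * i) = 1 := by
      rw [← hrr]; exact h.zz
    obtain ⟨w, hw⟩ : ∃ w, η + 1 = 4 * w := ⟨(η + 1) / 4, by omega⟩
    rw [hc, ← zpow_add, hrr, zpow_eq_iff ho]
    have hne : ¬ (2 : ℤ) ^ k ∣ (η + 1) * i := fun hd => h.r_pow.1 (by rw [hrr, hzero]; exact hd)
    rw [← zpow_add, hzero] at hin
    obtain ⟨m, hm⟩ := hin
    rw [hq] at hm hne ⊢
    have e' : (η + 1) * i = 2 * q * m := by
      have : 2 * ((η + 1) * i) = 2 * (2 * q * m) := by linear_combination hm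
      exact mul_left_cancel₀ two_ne_zero this
    rcases Int.even_or_odd m with ⟨u, hu⟩ | ⟨u, hu⟩
    · exact absurd ⟨u, by rw [e', hu]; ring⟩ hne
    · exact ⟨u, by rw [e', hu]; ring⟩
  have hc4 : ∀ e : ℤ, e % 4 = 3 → a ^ (e * q) = c⁻¹ := by
    intro e he
    rw [hc, ← zpow_neg, zpow_eq_iff ho, show -q - e * q = q * -(e + 1) by ring, hqi]; omega
  have htc : t * c * t = c⁻¹ := by rw [hc, hca, ← hc]; exact hc4 ε hε3
  have hrc : r⁻¹ * c * r = c⁻¹ := by rw [hc, hcr, ← hc]; exact hc4 η hη3
  have hrc' : r * c * r⁻¹ = c⁻¹ := by rw [hc, hcr', ← hc]; exact hc4 η hη3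
  have hcS : c ∈ S := hc ▸ zpow_mem d.aS q
  have htr' : t * r⁻¹ = r⁻¹ * t := (Commute.inv_right (show Commute t r from h.tr)).eq
  refine ⟨M, a, t * r⁻¹ * c, htM, hAnM, ?_, ?_, ?_, ?_, ?_⟩
  · intro p
    rw [hM, hM]
    simp only [map_mul, hyx]
    have hcl : ∀ m : ℤ, π (a ^ m) = 1 ∨ π (a ^ m) = π a := fun m =>
      (Int.even_or_odd m).imp (hpow m).1 (hpow m).2
    have eA : ∀ u : W ⧸ K, π a * (π a * u) = u := fun u => by rw [← mul_assoc, hAA, one_mul]
    have eAR : π a * π r = π r * π a := hRA.symm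
    have eAT : π a * π t = π t * π a := hAT.symm
    have eATA : π a * (π t * π a) = π t := by rw [← mul_assoc, eAT, mul_assoc, hAA, mul_one]
    have eARA : π a * (π r * π a) = π r := by rw [← mul_assoc, eAR, mul_assoc, hAA, mul_one]
    have eATR : π a * (π t * (π r * π a)) = π t * π r := by
      rw [← mul_assoc, eAT, mul_assoc, eARA]
    rcases h.out p with hp | hp
    · rcases hS4 p hp with ⟨m, rfl⟩ | ⟨m, rfl⟩
      · rcases hcl m with e | e
        · left; left; exact e
        · right; left; rw [e]; exact hAA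
      · rw [map_mul]
        rcases hcl m with e | e <;> rw [e]
        · right; right; right; left; rw [mul_one]; exact eAR
        · left; right; right; left; rfl
    · have hp' : π p = π t * π (t * p) := by
        rw [map_mul, ← mul_assoc, hTT, one_mul]
      rcases hS4 _ hp with ⟨m, e'⟩ | ⟨m, e'⟩ <;> rw [hp', e']
      · rcases hcl m with e | e <;> rw [e]
        · right; right; left; rw [mul_one]; exact eAT
        · left; right; left; rfl
      · rw [map_mul]
        rcases hcl m with e | e <;> rw [e]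
        · left; right; right; right; rw [mul_one]
        · right; right; right; right; exact eATR
  · intro x hxS hxM hxx
    have hx' : x = t * (t * x) := by rw [← mul_assoc, h.tt, one_mul]
    rcases hS4 _ ((h.out x).resolve_left hxS) with ⟨m, e'⟩ | ⟨m, e'⟩
    · rw [e'] at hx'
      rcases Int.even_or_odd m with ⟨u, hu⟩ | hm
      · obtain ⟨v, hv⟩ : ∃ v, ε - 1 = 2 * v ∧ Odd v := ⟨(ε - 1) / 2, by omega, by rw [Int.odd_iff]; omega⟩
        obtain ⟨l, hl⟩ := exists_gen_zpow ho hv.2 u
        rw [← zpow_mul, zpow_eq_iff ho] at hl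
        obtain ⟨n, hn⟩ := hl
        refine ⟨a ^ l, ?_⟩
        rw [hx', show a ^ l * t * (a ^ l)⁻¹ = (t * t) * a ^ l * t * (a ^ l)⁻¹ by rw [h.tt, one_mul],
          show (t * t) * a ^ l * t * (a ^ l)⁻¹ = t * ((t * a ^ l * t) * (a ^ l)⁻¹) by group, hca,
          ← zpow_neg, ← zpow_add]
        congr 1
        rw [zpow_eq_iff ho]
        exact ⟨2 * n, by rw [hu]; linear_combination 2 * hn - l * hv.1⟩
      · refine absurd ((hM x).2 (Or.inr (Or.inl ?_))) hxM
        rw [hx', map_mul, (hpow m).2 hm]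
    · rw [e'] at hx'
      rcases Int.even_or_odd m with hm | ⟨u, hu⟩
      · refine absurd ((hM x).2 (Or.inr (Or.inr (Or.inr ?_)))) hxM
        rw [hx', map_mul, map_mul, (hpow m).1 hm, mul_one, hyx]
      · exfalso
        rw [hx'] at hxx
        have e2 : t * (r * a ^ m) * (t * (r * a ^ m)) = a ^ ((η + 1) * i + η * (ε * m) + m) := by
          calc t * (r * a ^ m) * (t * (r * a ^ m)) = (t * r) * a ^ m * t * (r * a ^ m) := by group
            _ = r * (t * a ^ m * t) * (r * a ^ m) := by rw [h.tr]; group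
            _ = (r * r) * (r⁻¹ * a ^ (ε * m) * r) * a ^ m := by rw [hca]; group
            _ = _ := by rw [hrr, hcr, ← zpow_add, ← zpow_add]
        rw [e2, hzero, hq] at hxx
        obtain ⟨n, hn⟩ := hxx
        obtain ⟨e₁, he₁⟩ : ∃ e₁, η + 1 = 4 * e₁ := ⟨(η + 1) / 4, by omega⟩
        obtain ⟨e₂, he₂⟩ : ∃ e₂, ε + 1 = 4 * e₂ := ⟨(ε + 1) / 4, by omega⟩
        have hη' : η = 4 * e₁ - 1 := by linarith
        have hε' : ε = 4 * e₂ - 1 := by linarith
        rw [hη', hε', hu] at hn
        have : 2 = 4 * (q * n - e₁ * i - (4 * e₁ * e₂ - e₁ - e₂) * (2 * u + 1) - u) := by linarith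
        omega
  · intro hS
    have := S.mul_mem hS (S.inv_mem (S.mul_mem (S.inv_mem h.rS) hcS))
    rw [mul_assoc t, mul_inv_cancel_right] at this
    exact h.tS this
  · calc t * r⁻¹ * c * (t * r⁻¹ * c) = t * r⁻¹ * c * (t * r⁻¹) * c := by group
      _ = (r⁻¹ * t) * c * (t * r⁻¹) * c := by rw [← htr']
      _ = r⁻¹ * (t * c * t) * r⁻¹ * c := by group
      _ = r⁻¹ * r⁻¹ * (r * c⁻¹ * r⁻¹) * c := by rw [htc]; group
      _ = (r * r)⁻¹ * (c * c) := by rw [← conj_inv, hrc', inv_inv]; group
      _ = 1 := by rw [hcc, inv_mul_cancel]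
  · refine ⟨centralizer ({t * r⁻¹ * c} : Set W), ?_, fun x hx => mem_centralizer_singleton_iff.1 hx⟩
    set w := t * r⁻¹ * c with hw
    have hwa : ∀ m : ℤ, w * a ^ m * w⁻¹ = a ^ (ε * (η * m)) := fun m => by
      rw [hw, show t * r⁻¹ * c * a ^ m * (t * r⁻¹ * c)⁻¹ = t * (r⁻¹ * (c * a ^ m * c⁻¹) * r) * t⁻¹ by group,
        h.ti, hc, show a ^ q * a ^ m * (a ^ q)⁻¹ = a ^ m by group, hcr, hca]
    have hfix2 : a ^ (2 : ℤ) ∈ centralizer ({w} : Set W) := by
      rw [mem_centralizer_singleton_iff]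
      symm
      rw [← mul_inv_eq_iff_eq_mul, hwa, zpow_eq_iff ho]
      obtain ⟨n, hn⟩ := hdε
      obtain ⟨n', hn'⟩ := hdη
      exact ⟨n - ε * n', by linear_combination hn - ε * hn'⟩
    have hwr : w * r * w⁻¹ = r * (r * r) := by
      rw [hw, show t * r⁻¹ * c * r * (t * r⁻¹ * c)⁻¹ = t * (r⁻¹ * c * r * c⁻¹ * r) * t⁻¹ by group, h.ti, hrc,
        ← mul_inv_rev, hcc, show t * ((r * r)⁻¹ * r) * t = (t * r⁻¹) * t by group, htr', mul_assoc, h.tt,
        mul_one]
      exact inv_eq_of_mul_eq_one_right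
        (by rw [← mul_assoc, show r * r * (r * r) = r * r * r * r by group, h.r_pow.2.1])
    obtain ⟨s, hsS, hsK, hsw⟩ : ∃ s ∈ S, s ∉ K ∧ w * s * w⁻¹ = s := by
      have hd : a ^ (2 * (ε * η - 1)) = 1 := by
        rw [hzero]
        obtain ⟨n, hn⟩ := hdε
        obtain ⟨n', hn'⟩ := hdη
        exact ⟨ε * n' - n, by linear_combination ε * hn' - hn⟩
      have h1 : a ^ (ε * η - 1) = 1 ∨ a ^ (ε * η - 1) = r * r := by
        by_cases e : a ^ (ε * η - 1) = 1
        · exact Or.inl e
        · right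
          rw [hrr, zpow_eq_iff ho]
          rw [hzero] at hd e
          have hin : a ^ ((η + 1) * i) ≠ 1 ∧ a ^ (2 * ((η + 1) * i)) = 1 := by
            refine ⟨hrr ▸ h.r_pow.1, ?_⟩
            rw [two_mul, zpow_add, ← hrr]; exact h.zz
          rw [Ne, hzero, hzero] at hin
          obtain ⟨n, hn⟩ := hd
          obtain ⟨n', hn'⟩ := hin.2
          rw [hq] at hn hn' e ⊢
          have en : ε * η - 1 = 2 * q * n := by
            have : 2 * (ε * η - 1) = 2 * (2 * q * n) := by linear_combination hn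
            exact mul_left_cancel₀ two_ne_zero this
          have en' : (η + 1) * i = 2 * q * n' := by
            have : 2 * ((η + 1) * i) = 2 * (2 * q * n') := by linear_combination hn'
            exact mul_left_cancel₀ two_ne_zero this
          rcases Int.even_or_odd n with ⟨u, hu⟩ | ⟨u, hu⟩
          · exact absurd ⟨u, by rw [en, hu]; ring⟩ e
          rcases Int.even_or_odd n' with ⟨u', hu'⟩ | ⟨u', hu'⟩
          · exact absurd ⟨u', by rw [hq, en', hu']; ring⟩ hin.1
          exact ⟨u' - u, by rw [en, en', hu, hu']; ring⟩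
      have hwa1 : w * a * w⁻¹ = a ^ (ε * η - 1) * a := by
        have := hwa 1
        rw [zpow_one, mul_one] at this
        rw [this, ← zpow_add_one]; congr 1; ring
      rcases h1 with e | e
      · refine ⟨a, d.aS, fun hm => ?_, by rw [hwa1, e, one_mul]⟩
        have := (hKa 1).1 (by rwa [zpow_one])
        rw [Int.even_iff] at this; omega
      · refine ⟨a * r, mul_mem d.aS h.rS, fun hm => hrn
          (((zpowers a).mul_mem_cancel_left (mem_zpowers a)).1 (hKle hm)), ?_⟩
        calc w * (a * r) * w⁻¹ = (w * a * w⁻¹) * (w * r * w⁻¹) := by group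
          _ = (r * r) * (a * r) * (r * r) := by rw [hwa1, hwr, e]; group
          _ = a * r * ((r * r) * (r * r)) := by rw [← h.z_central (a * r)]; group
          _ = _ := by rw [h.zz, mul_one]
    have l1 : K < centralizer ({w} : Set W) ⊓ S := lt_of_le_of_ne
      (le_inf (zpowers_le.2 hfix2) hKS) fun e => hsK (by
        rw [e]; exact ⟨mem_centralizer_singleton_iff.2 (mul_inv_eq_iff_eq_mul.1 hsw).symm, hsS⟩)
    have l2 : centralizer ({w} : Set W) ⊓ S < centralizer ({w} : Set W) := lt_of_le_of_ne inf_le_left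
      fun e => by
        have hwC : w ∈ centralizer ({w} : Set W) := mem_centralizer_singleton_iff.2 rfl
        rw [← e] at hwC
        have := S.mul_mem hwC.2 (S.inv_mem (S.mul_mem (S.inv_mem h.rS) hcS))
        rw [hw, mul_assoc t, mul_inv_cancel_right] at this
        exact h.tS this
    have hKc : 4 ≤ Nat.card K := by
      have h4 : Nat.card K = 2 ^ (k - 1) := by
        rw [Nat.card_zpowers, show (2 : ℤ) = ((2 : ℕ) : ℤ) by norm_num, zpow_natCast,
          orderOf_pow' _ two_ne_zero, ho,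
          Nat.gcd_eq_right (dvd_pow_self 2 (by omega)),
          show 2 ^ k = 2 ^ (k - 1) * 2 by rw [← pow_succ]; congr 1; omega, Nat.mul_div_cancel _ two_pos]
      rw [h4]
      calc 4 = 2 ^ 2 := rfl
        _ ≤ _ := Nat.pow_le_pow_right two_pos (by omega)
    have := two_mul_card_le l1
    have := two_mul_card_le l2
    omega

end Cfsg.Agent.Invol.CycFour
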