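import Cfsg.Agent.Lib.Invol.CycFourFixed.Shape
import Cfsg.Agent.Lib.Invol.CycFourFixed.Max

/-!
# The case of a normal four-group
-/

set_option autoImplicit false

namespace Cfsg.Agent.Invol.CycFour

open Subgroup

variable {W : Type*} [Group W]

/-- `v` is central in `S` and is separated from its possible conjugates by `M`. -/
structure CentralData (S : Subgroup W) (z v : W) (M : Subgroup W) : Prop where
  le : M ≤ S
  vS : v ∈ S
  vv : v * v = 1
  v1 : v ≠ 1
  comm : ∀ x ∈ S, ∀ y ∈ S, x * y * x⁻¹ * y⁻¹ ∈ M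
  zM : z ∈ M
  vM : v ∉ M
  uniq : ∀ x ∈ S, x * x ∈ M → x ∈ M ∨ x * v ∈ M
  cent : ∀ x ∈ S, x * v = v * x
  invol : ∀ x ∈ S, x * x = 1 → (∀ y ∈ S, x * y = y * x) → x = 1 ∨ x = z ∨ x = v ∨ x = v * z
  sep : (∀ x ∈ S, x * x ∈ M) ∨ ∃ p ∈ S, ∃ q ∈ S, p * q * p⁻¹ * q⁻¹ = z

/-- The centraliser of `v` has index two in `S`. -/
structure MovedData (S : Subgroup W) (z v : W) (M A : Subgroup W) : Prop where
  le : M ≤ S
  vS : v ∈ S
  vv : v * v = 1
  v1 : v ≠ 1
  comm : ∀ x ∈ S, ∀ y ∈ S, x * y * x⁻¹ * y⁻¹ ∈ M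
  zM : z ∈ M
  vM : v ∉ M
  uniq : ∀ x ∈ S, x * x ∈ M → x ∈ M ∨ x * v ∈ M
  Ale : A ≤ S
  vA : v ∈ A
  rA : ∃ u ∈ A, u * u = z
  cA : ∀ a ∈ A, a * v = v * a
  centA : ∀ x ∈ S, x * v = v * x → x ∈ A
  sqA : ∀ u ∈ A, (u * u) * (u * u) = 1 → u * u = 1 ∨ u * u = z
  index : Nat.card S = 2 * Nat.card A
  moved : ∃ y ∈ S, y * v * y⁻¹ = v * z
  invol : ∀ x ∈ S, x * x = 1 → (∀ y ∈ S, x * y = y * x) → x = 1 ∨ x = z
  outM : ∀ x ∈ S, x * x = 1 → x ∉ M → x = v ∨ x = v * z

/-- `S` is a direct product of two cyclic groups of order four. -/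
structure HomData (S : Subgroup W) (d y : W) : Prop where
  dS : d ∈ S
  yS : y ∈ S
  comm : d * y = y * d
  d4 : d ^ 4 = 1
  y4 : y ^ 4 = 1
  span : ∀ x ∈ S, ∃ i j : ℤ, x = d ^ i * y ^ j
  card : Nat.card S = 16

theorem eq_of_invol_zpowers {d x y : W} [Finite W] (hW : IsPGroup 2 W) (hx : x ∈ zpowers d)
    (hy : y ∈ zpowers d) (hxx : x * x = 1) (hyy : y * y = 1) (hx1 : x ≠ 1) (hy1 : y ≠ 1) : x = y := by
  haveI : Fact (Nat.Prime 2) := ⟨Nat.prime_two⟩
  obtain ⟨n, hn⟩ := IsPGroup.iff_orderOf.1 hW d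
  obtain ⟨i, rfl⟩ := mem_zpowers_iff.1 hx
  obtain ⟨j, rfl⟩ := mem_zpowers_iff.1 hy
  have hz : ∀ m : ℤ, d ^ m = 1 ↔ (2 : ℤ) ^ n ∣ m := fun m => by
    rw [← zpow_zero d, zpow_eq_iff hn, zero_sub, dvd_neg]
  rw [← zpow_add, hz] at hxx hyy
  rw [Ne, hz] at hx1 hy1
  rcases n with _ | n
  · simp at hx1
  rw [pow_succ', ← two_mul, mul_dvd_mul_iff_left two_ne_zero] at hxx hyy
  obtain ⟨p, rfl⟩ := hxx
  obtain ⟨q, rfl⟩ := hyy
  rw [zpow_eq_iff hn, pow_succ]
  rcases Int.even_or_odd p with ⟨u, rfl⟩ | ⟨u, rfl⟩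
  · exact absurd ⟨u, by ring⟩ hx1
  rcases Int.even_or_odd q with ⟨w, rfl⟩ | ⟨w, rfl⟩
  · exact absurd ⟨w, by ring⟩ hy1
  exact ⟨w - u, by ring⟩

/-- Commutators lie in a normal subgroup modulo which `S` is generated by two commuting elements. -/
theorem comm_mem {S N : Subgroup W} [N.Normal] {y v : W} (hyv : y * v * y⁻¹ * v⁻¹ ∈ N)
    (h : ∀ x ∈ S, ∃ i j : ℤ, ∃ n ∈ N, x = y ^ i * v ^ j * n) :
    ∀ p ∈ S, ∀ q ∈ S, p * q * p⁻¹ * q⁻¹ ∈ N := by
  intro p hp q hq
  rw [← QuotientGroup.eq_one_iff]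
  change QuotientGroup.mk' N (p * q * p⁻¹ * q⁻¹) = 1
  have hc : Commute (QuotientGroup.mk' N y) (QuotientGroup.mk' N v) := by
    have : QuotientGroup.mk' N (y * v * y⁻¹ * v⁻¹) = 1 := (QuotientGroup.eq_one_iff _).2 hyv
    rw [map_mul, map_mul, map_mul, map_inv, map_inv, mul_inv_eq_one, mul_inv_eq_iff_eq_mul] at this
    exact this
  obtain ⟨i, j, n, hn, rfl⟩ := h p hp
  obtain ⟨i', j', n', hn', rfl⟩ := h q hq
  have e : ∀ {x : W}, x ∈ N → QuotientGroup.mk' N x = 1 := fun hx => (QuotientGroup.eq_one_iff _).2 hx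
  simp only [map_mul, map_inv, map_zpow, e hn, e hn', mul_one]
  have : Commute (QuotientGroup.mk' N y ^ i * QuotientGroup.mk' N v ^ j)
      (QuotientGroup.mk' N y ^ i' * QuotientGroup.mk' N v ^ j') :=
    ((Commute.zpow_zpow (Commute.refl _) i i').mul_right (hc.zpow_zpow i j')).mul_left
      (((hc.zpow_zpow i' j).symm).mul_right (Commute.zpow_zpow (Commute.refl _) j j'))
  rw [this.eq, mul_assoc (_ * _) (_ * _), mul_inv_cancel, mul_one, mul_inv_cancel]

variable [Finite W] {S : Subgroup W} {t r v : W}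

/-- The three possible outcomes of the four-group case. -/
theorem four_cases (h : Hyp S t r) (fd : FourData S r v) :
    (∃ M, CentralData S (r * r) v M) ∨ (∃ M A, MovedData S (r * r) v M A) ∨ ∃ d y, HomData S d y := by
  haveI : Fact (Nat.Prime 2) := ⟨Nat.prime_two⟩
  haveI := h.norm
  obtain ⟨vS, vv, v1, vz, hrv, hv⟩ := fd
  obtain ⟨z, hz⟩ : ∃ z, z = r * r := ⟨_, rfl⟩
  simp only [← hz] at hv vz ⊢
  have hzc : ∀ g : W, g * z = z * g := hz ▸ h.z_central
  have hzz : z * z = 1 := hz ▸ h.zz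
  have hz1 : z ≠ 1 := hz ▸ h.r_pow.1
  have hvz : v * z = z * v := hzc v
  have hvi : v⁻¹ = v := inv_eq_of_mul_eq_one_right vv
  have hzi : z⁻¹ = z := inv_eq_of_mul_eq_one_right hzz
  have hvz2 : v * z * (v * z) = 1 := by
    calc v * z * (v * z) = v * (z * v) * z := by group
      _ = v * (v * z) * z := by rw [← hvz]
      _ = (v * v) * (z * z) := by group
      _ = 1 := by rw [vv, hzz, one_mul]
  have htv : t * v * t = v * z := by
    rcases hv t with e | e
    · rw [h.ti] at e
      rcases h.fixed_invol vS vv (fixed_of_inverted h.tt vv (by rw [e, hvi])) with e' | e'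
      · exact absurd e' v1
      · exact absurd (e'.trans hz.symm) vz
    · rwa [h.ti] at e
  have hvz1 : v * z ≠ 1 := fun e => vz (by rw [mul_eq_one_iff_eq_inv, hzi] at e; exact e)
  have hvnr : ∀ x ∈ zpowers r, t * x * t = x := fun x hx => by
    obtain ⟨i, rfl⟩ := mem_zpowers_iff.1 hx
    rw [(Commute.zpow_right (show Commute t r from h.tr) i).eq, mul_assoc, h.tt, mul_one]
  let T₀ : Subgroup W := S ⊓ centralizer ({v} : Set W)
  haveI hT₀ : T₀.Normal := by
    refine ⟨fun x hx g => ⟨h.norm.conj_mem x hx.1 g, mem_centralizer_singleton_iff.2 ?_⟩⟩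
    have hxv : x * v = v * x := mem_centralizer_singleton_iff.1 hx.2
    rcases hv g⁻¹ with e | e <;> rw [inv_inv] at e
    all_goals
      have hxe : x * (g⁻¹ * v * g) = (g⁻¹ * v * g) * x := by
        rw [e]
        first
          | exact hxv
          | rw [← mul_assoc, hxv, mul_assoc, hzc x, ← mul_assoc]
      calc g * x * g⁻¹ * v = g * (x * (g⁻¹ * v * g)) * g⁻¹ := by group
        _ = v * (g * x * g⁻¹) := by rw [hxe]; group
  have hT : ∀ x, x ∈ T₀ ↔ x ∈ S ∧ x * v = v * x := fun x => by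
    rw [mem_inf, mem_centralizer_singleton_iff]
  let V₀ : Subgroup W := fourGroup z v hzz vv hvz
  have hV : ∀ x, x ∈ V₀ ↔ x = 1 ∨ x = z ∨ x = v ∨ x = v * z := fun x => Iff.rfl
  haveI hV₀ : V₀.Normal := by
    refine ⟨fun x hx g => ?_⟩
    rw [hV] at hx ⊢
    have hzg : g * z * g⁻¹ = z := by rw [hzc g, mul_inv_cancel_right]
    rcases hx with rfl | rfl | rfl | rfl
    · left; group
    · right; left; exact hzg
    · rcases hv g with e | e <;> simp [e]
    · rw [show g * (v * z) * g⁻¹ = (g * v * g⁻¹) * (g * z * g⁻¹) by group, hzg]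
      rcases hv g with e | e <;> rw [e]
      · simp
      · rw [mul_assoc v z z, hzz, mul_one]; simp
  have hrT : r ∈ T₀ := (hT r).2 ⟨h.rS, hrv⟩
  have hzT : z ∈ T₀ := hz ▸ mul_mem hrT hrT
  have hvT : v ∈ T₀ := (hT v).2 ⟨vS, rfl⟩
  have hle : V₀ ≤ T₀ := by
    intro x hx
    rcases (hV x).1 hx with rfl | rfl | rfl | rfl
    exacts [one_mem _, hzT, hvT, mul_mem hvT hzT]
  have hrV : r ∉ V₀ := fun hm => h.r_pow.1 (by
    rcases (hV r).1 hm with e | e | e | e <;> rw [e]
    · exact one_mul 1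
    · exact hzz
    · exact vv
    · exact hvz2)
  let π : W →* W ⧸ V₀ := QuotientGroup.mk' V₀
  have hπ : ∀ {x : W}, π x = 1 ↔ x ∈ V₀ := fun {x} => QuotientGroup.eq_one_iff x
  have hπs : Function.Surjective π := QuotientGroup.mk'_surjective V₀
  have hWq : IsPGroup 2 (W ⧸ V₀) := h.pg.to_quotient V₀
  let H : Subgroup (W ⧸ V₀) := T₀.map π
  haveI : H.Normal := Subgroup.Normal.map inferInstance π hπs
  have hfix : ∀ x ∈ H, π t * x = x * π t → x = 1 ∨ x = π r := by
    rintro _ ⟨x, hx, rfl⟩ hc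
    have hxS := ((hT x).1 hx).1
    have hf : twist t x ∈ V₀ := by
      rw [← hπ, twist, map_mul, map_mul, map_mul, map_inv, hc, mul_assoc (π x), ← map_mul π t t,
        h.tt, map_one, mul_one, inv_mul_cancel]
    have hcl : ∀ y ∈ zpowers r, π y = 1 ∨ π y = π r := by
      intro y hy
      have hzV : π (r * r) = 1 := hπ.2 ((hV _).2 (Or.inr (Or.inl hz.symm)))
      rcases h.r_cases hy with rfl | rfl | rfl | rfl
      · exact Or.inl (map_one π)
      · exact Or.inr rfl
      · exact Or.inl hzV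
      · exact Or.inr (by rw [map_mul, hzV, one_mul])
    have hinvf := twist_inverted h.tt x
    rcases (hV _).1 hf with e | e | e | e
    · exact hcl x (h.fix x hxS ((twist_eq_one_iff h.tt).1 e))
    · have hfv : twist t v = z := by rw [twist, htv, inv_mul_cancel_left]
      have h6 := h.fix _ (mul_mem hxS (inv_mem vS)) (fixed_of_twist_eq h.tt (hfv.trans e.symm))
      have hvπ : π v = 1 := hπ.2 ((hV v).2 (by simp))
      rcases hcl _ h6 with e' | e' <;> rw [map_mul, map_inv, hvπ, inv_one, mul_one] at e'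
      exacts [Or.inl e', Or.inr e']
    · rw [e, htv, hvi] at hinvf
      exact absurd (mul_eq_left.1 hinvf) hz1
    · rw [e, mul_inv_rev, hzi, hvi, ← hvz, show t * (v * z) * t = t * v * (z * t) by group, ← hzc t,
        show t * v * (t * z) = (t * v * t) * z by group, htv, mul_assoc v, hzz, mul_one,
        left_eq_mul] at hinvf
      exact absurd hinvf hz1
  obtain ⟨a', ha', ha'n, hea', hinv', hcyc'⟩ := exists_cyclic hWq
    (show π t * π t = 1 by rw [← map_mul, h.tt, map_one]) H (mem_map_of_mem π hrT)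
    (show π r * π r = 1 by rw [← map_mul, hπ, ← hz]; exact (hV z).2 (by simp))
    (fun e => hrV (hπ.1 e)) hfix
  obtain ⟨a, haT, rfl⟩ := ha'
  haveI hCn : (zpowers (π a)).Normal := ⟨fun x hx g => by
    obtain ⟨i, rfl⟩ := mem_zpowers_iff.1 hx
    rw [← conj_zpow]; exact zpow_mem (ha'n g) i⟩
  let A : Subgroup W := (zpowers (π a)).comap π
  haveI hAn : A.Normal := inferInstanceAs ((zpowers (π a)).comap π).Normal
  have hAdec : ∀ x ∈ A, ∃ i : ℤ, ∃ u ∈ V₀, x = a ^ i * u := by
    intro x hx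
    obtain ⟨i, hi⟩ := mem_zpowers_iff.1 (show π x ∈ zpowers (π a) from hx)
    refine ⟨i, (a ^ i)⁻¹ * x, ?_, by group⟩
    rw [← hπ, map_mul, map_inv, map_zpow, hi, inv_mul_cancel]
  have hAT : A ≤ T₀ := by
    intro x hx
    obtain ⟨i, u, hu, rfl⟩ := hAdec x hx
    exact mul_mem (zpow_mem haT i) (hle hu)
  have hAS : A ≤ S := fun x hx => ((hT x).1 (hAT hx)).1
  have hcV : ∀ x ∈ T₀, ∀ u ∈ V₀, Commute x u := by
    intro x hx u hu
    rcases (hV u).1 hu with rfl | rfl | rfl | rfl
    · exact Commute.one_right x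
    · exact hzc x
    · exact ((hT x).1 hx).2
    · exact (show Commute x v from ((hT x).1 hx).2).mul_right (hzc x)
  have hAc : ∀ x ∈ A, ∀ y ∈ A, x * y = y * x := by
    intro x hx y hy
    obtain ⟨j, w, hw, rfl⟩ := hAdec y hy
    obtain ⟨i, u, hu, rfl⟩ := hAdec x hx
    exact ((((Commute.refl a).zpow_zpow i j).mul_right (hcV _ (zpow_mem haT i) w hw)).mul_left
      (((hcV _ (zpow_mem haT j) u hu).symm).mul_right ((hcV _ (hle hu) w hw)))).eq
  have hVA : V₀ ≤ A := fun x hx => by
    show π x ∈ zpowers (π a)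
    rw [hπ.2 hx]; exact one_mem _
  have hvA : v ∈ A := hVA ((hV v).2 (by simp))
  have hzA : z ∈ A := hVA ((hV z).2 (by simp))
  have hrA : r ∈ A := hea'
  have hinvA : ∀ x ∈ T₀, t * x * t = x⁻¹ → x ∈ A := fun x hx e => by
    refine hinv' _ (mem_map_of_mem π hx) ?_
    rw [← map_mul, ← map_mul, e, map_inv]
  have hAt : ∀ x ∈ A, t * x * t ∈ A := fun x hx => by
    have := hAn.conj_mem x hx t; rwa [h.ti] at this
  -- the inverted elements
  let I : Subgroup W :=
    { carrier := {x | x ∈ A ∧ t * x * t = x⁻¹}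
      one_mem' := ⟨A.one_mem, by rw [mul_one, h.tt, inv_one]⟩
      mul_mem' := fun {x y} hx hy => ⟨A.mul_mem hx.1 hy.1, by
        calc t * (x * y) * t = t * x * (t * t) * y * t := by rw [h.tt]; group
          _ = (t * x * t) * (t * y * t) := by group
          _ = (y * x)⁻¹ := by rw [hx.2, hy.2, mul_inv_rev]
          _ = _ := by rw [hAc x hx.1 y hy.1]⟩
      inv_mem' := fun {x} hx => ⟨A.inv_mem hx.1, by
        rw [← hx.2]
        calc t * (t * x * t) * t = (t * t) * x * (t * t) := by group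
          _ = _ := by rw [hx.2, inv_inv, h.tt, one_mul, mul_one]⟩ }
  have hI : ∀ x, x ∈ I ↔ x ∈ A ∧ t * x * t = x⁻¹ := fun x => Iff.rfl
  have hIA : I ≤ A := fun x hx => hx.1
  have hvI : v ∉ I := fun hm => by
    have := ((hI v).1 hm).2
    rw [htv, hvi] at this
    exact hz1 (mul_eq_left.1 this)
  obtain ⟨d, hd⟩ := exists_gen h.pg (B := I) (fun x hx y hy => hAc x hx.1 y hy.1) (e := z)
    (fun x hx hxx => hz ▸ h.fixed_invol (hAS hx.1) hxx (fixed_of_inverted h.tt hxx hx.2))
  have hdI : d ∈ I := by rw [hd]; exact mem_zpowers d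
  have hdA : d ∈ A := hIA hdI
  have htw : ∀ s ∈ S, twist t s ∈ I := by
    intro s hs
    have hsT : t * s * t ∈ S := h.conj_mem hs
    have hT' : twist t s ∈ T₀ := by
      refine (hT _).2 ⟨mul_mem (inv_mem hs) hsT, ?_⟩
      have e1 : (t * s * t) * v * (t * s * t)⁻¹ = s * v * s⁻¹ := by
        rw [mul_inv_rev, mul_inv_rev, h.ti,
          show t * s * t * v * (t * (s⁻¹ * t)) = t * (s * (t * v * t) * s⁻¹) * t by group, htv,
          show s * (v * z) * s⁻¹ = (s * v * s⁻¹) * (s * z * s⁻¹) by group, hzc s, mul_inv_cancel_right,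
          show t * (s * v * s⁻¹ * z) * t = t * (s * v * s⁻¹) * (z * t) by group, ← hzc t,
          show t * (s * v * s⁻¹) * (t * z) = t * (s * v * s⁻¹) * t * z by group]
        rcases hv s with e | e <;> rw [e]
        · rw [htv, mul_assoc, hzz, mul_one]
        · rw [show t * (v * z) * t = t * v * (z * t) by group, ← hzc t,
            show t * v * (t * z) = t * v * t * z by group, htv, mul_assoc, hzz, mul_one]
      rw [← mul_inv_eq_iff_eq_mul]
      calc twist t s * v * (twist t s)⁻¹ = s⁻¹ * ((t * s * t) * v * (t * s * t)⁻¹) * s := by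
            simp only [twist]; group
        _ = v := by rw [e1]; group
    exact (hI _).2 ⟨hinvA _ hT' (twist_inverted h.tt s), twist_inverted h.tt s⟩
  have hltA : I < A := lt_of_le_of_ne hIA fun e => hvI (by rw [e]; exact hvA)
  have hcS : Nat.card S ≤ 4 * Nat.card I := by
    have := card_le_mul_of_twist h.tt S (zpowers r) (I : Set W) h.fix htw
    rwa [h.card_R] at this
  have hIlA := two_mul_card_le hltA
  by_cases hSA : S ≤ A
  · -- `S` is abelian
    left
    have hSc : ∀ x ∈ S, ∀ y ∈ S, x * y = y * x := fun x hx y hy => hAc x (hSA hx) y (hSA hy)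
    have ha2 : ∀ x ∈ S, ∃ i : ℤ, ∃ u ∈ V₀, x = a ^ i * u ∧ x * x = a ^ i * a ^ i := by
      intro x hx
      obtain ⟨i, u, hu, rfl⟩ := hAdec x (hSA hx)
      refine ⟨i, u, hu, rfl, ?_⟩
      have hu2 : u * u = 1 := by
        rcases (hV u).1 hu with e | e | e | e <;> rw [e]
        · exact one_mul 1
        · exact hzz
        · exact vv
        · exact hvz2
      rw [(hcV _ (zpow_mem haT i) u hu).symm.mul_mul_mul_comm, hu2, mul_one]
    have hza : z ∈ zpowers a := by
      obtain ⟨i, u, hu, e1, e2⟩ := ha2 r h.rS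
      rw [hz, e2]; exact mul_mem (zpow_mem (mem_zpowers a) i) (zpow_mem (mem_zpowers a) i)
    have hva : v ∉ zpowers a := fun hm => vz (eq_of_invol_zpowers h.pg hm hza vv hzz v1 hz1)
    have haS : a ∈ S := ((hT a).1 haT).1
    refine ⟨zpowers a, zpowers_le.2 haS, vS, vv, v1, fun x hx y hy => ?_, hza, hva, fun x hx _ => ?_,
      fun x hx => hSc x hx v vS, fun x hx hxx _ => ?_, Or.inl fun x hx => ?_⟩
    · rw [hSc x hx y hy, mul_inv_cancel_right, mul_inv_cancel]; exact one_mem _
    · obtain ⟨i, u, hu, rfl, -⟩ := ha2 x hx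
      rcases (hV u).1 hu with e | e | e | e <;> rw [e]
      · left; rw [mul_one]; exact zpow_mem (mem_zpowers a) i
      · left; exact mul_mem (zpow_mem (mem_zpowers a) i) hza
      · right; rw [mul_assoc, vv, mul_one]; exact zpow_mem (mem_zpowers a) i
      · right; rw [mul_assoc, hvz, mul_assoc, vv, mul_one]; exact mul_mem (zpow_mem (mem_zpowers a) i) hza
    · obtain ⟨i, u, hu, rfl, e⟩ := ha2 x hx
      rw [e] at hxx
      have : a ^ i = 1 ∨ a ^ i = z := or_iff_not_imp_left.2 fun ne =>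
        eq_of_invol_zpowers h.pg (zpow_mem (mem_zpowers a) i) hza hxx hzz ne hz1
      rcases this with e' | e' <;> rcases (hV u).1 hu with e'' | e'' | e'' | e'' <;> rw [e', e'']
      · left; rw [one_mul]
      · right; left; rw [one_mul]
      · right; right; left; rw [one_mul]
      · right; right; right; rw [one_mul]
      · right; left; rw [mul_one]
      · left; exact hzz
      · right; right; right; rw [hvz]
      · right; right; left; rw [hvz, ← mul_assoc, hzz, one_mul]
    · obtain ⟨i, u, hu, -, e⟩ := ha2 x hx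
      rw [e]; exact mul_mem (zpow_mem (mem_zpowers a) i) (zpow_mem (mem_zpowers a) i)
  have hAltS : A < S := lt_of_le_of_ne hAS fun e => hSA e.ge
  have hAS2 := two_mul_card_le hAltS
  have hS2 : Nat.card S = 2 * Nat.card A := by omega
  have hI2 : Nat.card A = 2 * Nat.card I := by omega
  have hcov : ∀ x ∈ S, ∀ y ∈ S, x ∉ A → y ∉ A → x * y ∈ A := by
    intro x hx y hy hxA hyA
    have hi : (A.subgroupOf S).index = 2 := by
      have h1 := Subgroup.card_mul_index (A.subgroupOf S)
      rw [Nat.card_congr (Subgroup.subgroupOfEquivOfLe hAS).toEquiv, hS2, mul_comm 2] at h1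
      exact Nat.eq_of_mul_eq_mul_left Nat.card_pos h1
    have := (Subgroup.mul_mem_iff_of_index_two hi (a := (⟨x, hx⟩ : S)) (b := ⟨y, hy⟩)).2
      (iff_of_false hxA hyA)
    exact this
  have hcovI : ∀ x ∈ A, x ∈ I ∨ x * v ∈ I := by
    intro x hx
    by_cases hxI : x ∈ I
    · exact Or.inl hxI
    right
    have hi : (I.subgroupOf A).index = 2 := by
      have h1 := Subgroup.card_mul_index (I.subgroupOf A)
      rw [Nat.card_congr (Subgroup.subgroupOfEquivOfLe hIA).toEquiv, hI2, mul_comm 2] at h1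
      exact Nat.eq_of_mul_eq_mul_left Nat.card_pos h1
    exact (Subgroup.mul_mem_iff_of_index_two hi (a := (⟨x, hx⟩ : A)) (b := ⟨v, hvA⟩)).2
      (iff_of_false hxI hvI)
  have hrvI : r * v ∈ I := (hcovI r hrA).resolve_left fun hm => by
    have := ((hI r).1 hm).2
    rw [hvnr r (mem_zpowers r)] at this
    exact h.r_pow.1 (mul_eq_one_iff_eq_inv.2 this)
  have hrv2 : r * v * (r * v) = z := by
    rw [show r * v * (r * v) = r * (v * r) * v by group, ← hrv, ← mul_assoc r r, mul_assoc, vv,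
      mul_one, hz]
  have hzI : z ∈ I := hrv2 ▸ mul_mem hrvI hrvI
  obtain ⟨n, hn⟩ := IsPGroup.iff_orderOf.1 h.pg d
  have hn2 : 2 ≤ n := by
    by_contra hlt
    obtain ⟨i, hi⟩ := mem_zpowers_iff.1 (show r * v ∈ zpowers d by rw [← hd]; exact hrvI)
    have hdd : d * d = 1 := by
      rw [← pow_two, ← orderOf_dvd_iff_pow_eq_one, hn]
      exact (Nat.pow_dvd_pow 2 (show n ≤ 1 by omega)).trans (by norm_num)
    apply hz1
    rw [← hrv2, ← hi, ← (Commute.refl d).mul_zpow, hdd, one_zpow]
  obtain ⟨hh, hhz⟩ := mem_zpowers_iff.1 (show z ∈ zpowers d by rw [← hd]; exact hzI)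
  have hhe : Even hh := by
    rcases Int.even_or_odd hh with e | e
    · exact e
    exfalso
    obtain ⟨i, hi⟩ := exists_gen_zpow hn e 1
    rw [hhz, zpow_one] at hi
    have hdd : d * d = 1 := by rw [← hi, ← (Commute.refl z).mul_zpow, hzz, one_zpow]
    have := orderOf_dvd_of_pow_eq_one (show d ^ 2 = 1 by rw [pow_two, hdd])
    rw [hn] at this
    have := (Nat.pow_dvd_pow_iff_le_right (show 1 < 2 by norm_num)).1 (this.trans (by norm_num : 2 ∣ 2 ^ 1))
    omega
  obtain ⟨y₀, hy₀S, hy₀⟩ : ∃ y ∈ S, twist t y = d := by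
    by_contra hne
    push Not at hne
    have := card_le_mul_of_twist h.tt S (zpowers r) ((I : Set W) \ {d}) h.fix
      fun s hs => ⟨htw s hs, hne s hs⟩
    rw [h.card_R] at this
    have hlt : Nat.card ↥((I : Set W) \ {d}) < Nat.card I := by
      change _ < Nat.card ↥(I : Set W)
      rw [Nat.card_coe_set_eq, Nat.card_coe_set_eq]
      exact Set.ncard_lt_ncard (Set.sdiff_singleton_ssubset.2 hdI)
    omega
  have hy₀A : y₀ ∉ A := by
    intro hyA
    obtain ⟨s, hsS, hsA⟩ := SetLike.exists_of_lt hAltS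
    obtain ⟨i, hi⟩ := mem_zpowers_iff.1 (show twist t s ∈ zpowers d by rw [← hd]; exact htw s hsS)
    have hpow : ∀ x ∈ A, ∀ i : ℤ, twist t (x ^ i) = twist t x ^ i := fun x hx i => by
      simp only [twist]
      rw [(show Commute x⁻¹ (t * x * t) from hAc _ (inv_mem hx) _ (hAt x hx)).mul_zpow, inv_zpow]
      congr 1
      have := conj_zpow (a := t) (b := x) (i := i)
      rw [h.ti] at this
      exact this.symm
    have e : twist t (y₀ ^ i) = twist t s := by rw [hpow y₀ hyA, hy₀, hi]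
    have hm := h.fix _ (mul_mem hsS (inv_mem (zpow_mem hy₀S i))) (fixed_of_twist_eq h.tt e)
    exact hsA ((A.mul_mem_cancel_right (inv_mem (zpow_mem hyA i))).1 ((zpowers_le.2 hrA) hm))
  -- choose `y` with `y² ≠ z` if `y` moves `v`
  obtain ⟨y, hyS, hyA, e, hye, hecase⟩ : ∃ y ∈ S, y ∉ A ∧ ∃ e, twist t y = e ∧
      (zpowers e = zpowers d ∧ (y * v * y⁻¹ = v * z → y * y ≠ z)) := by
    by_cases hc : y₀ * v * y₀⁻¹ = v * z ∧ y₀ * y₀ = z
    · refine ⟨y₀ * v, mul_mem hy₀S vS, fun e => hy₀A ((A.mul_mem_cancel_right hvA).1 e), d * z, ?_, ?_, ?_⟩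
      · rw [twist_mul h.tt, hy₀, htv, hvi, hAc v hvA d hdA, mul_assoc, ← mul_assoc v v, vv, one_mul]
      · have hd' : d * z = d ^ (1 + hh) := by rw [zpow_add, zpow_one, hhz]
        refine le_antisymm (zpowers_le.2 (by rw [hd']; exact zpow_mem (mem_zpowers d) _)) (zpowers_le.2 ?_)
        obtain ⟨i, hi⟩ := exists_gen_zpow hn (u := 1 + hh) (Odd.add_even odd_one hhe) 1
        rw [← hd', zpow_one] at hi
        exact mem_zpowers_iff.2 ⟨i, hi⟩
      · intro _
        have h1 : y₀ * v = v * z * y₀ := mul_inv_eq_iff_eq_mul.1 hc.1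
        rw [show y₀ * v * (y₀ * v) = (y₀ * v) * y₀ * v by group, h1,
          show v * z * y₀ * y₀ * v = v * z * (y₀ * y₀) * v by group, hc.2, mul_assoc v z z, hzz,
          mul_one, vv]
        exact hz1.symm
    · exact ⟨y₀, hy₀S, hy₀A, d, hy₀, rfl, fun e e' => hc ⟨e, e'⟩⟩
  obtain ⟨hed, hyz⟩ := hecase
  have hd' : I = zpowers e := hed ▸ hd
  obtain ⟨n', hn'⟩ : ∃ n', orderOf e = 2 ^ n' ∧ 2 ≤ n' :=
    ⟨n, by rw [← Nat.card_zpowers, hed, Nat.card_zpowers, hn], hn2⟩
  clear hd hn hn2 hhe hhz hh hy₀A hy₀ hy₀S y₀ hed hdA hdI d n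
  obtain ⟨d, rfl⟩ : ∃ d, d = e := ⟨e, rfl⟩
  obtain ⟨n, rfl⟩ : ∃ n, n = n' := ⟨n', rfl⟩
  obtain ⟨hn, hn2⟩ := hn'
  have hdI : d ∈ I := by rw [hd']; exact mem_zpowers d
  have hdA : d ∈ A := hIA hdI
  have hyyA : y * y ∈ A := hcov y hyS y hyS hyA hyA
  obtain ⟨hh, hhz⟩ := mem_zpowers_iff.1 (show z ∈ zpowers d by rw [← hd']; exact hzI)
  -- decomposition of `A`
  have hAd : ∀ x ∈ A, ∃ i : ℤ, x = d ^ i ∨ x = d ^ i * v := by
    intro x hx
    rcases hcovI x hx with e' | e' <;> rw [hd'] at e' <;> obtain ⟨i, hi⟩ := mem_zpowers_iff.1 e'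
    · exact ⟨i, Or.inl hi.symm⟩
    · exact ⟨i, Or.inr (by rw [hi, mul_assoc, vv, mul_one])⟩
  have hdv : Commute d v := hAc d hdA v hvA
  -- conjugation by `y`
  have hydy : y * d * y⁻¹ = d⁻¹ * twist t (y * y) := by
    have ety : t * y * t = y * d := by
      rw [← hye, twist]; group
    have e1 : t * (y * y) * t = (y * d) * (y * d) := by
      calc t * (y * y) * t = t * y * (t * t) * y * t := by rw [h.tt]; group
        _ = (t * y * t) * (t * y * t) := by group
        _ = _ := by rw [ety]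
    have e2 : y * d * y⁻¹ = (t * (y * y) * t * d⁻¹) * (y * y)⁻¹ := by rw [e1]; group
    have hm : t * (y * y) * t * d⁻¹ ∈ A := mul_mem (hAt _ hyyA) (inv_mem hdA)
    rw [e2, hAc _ hm _ (inv_mem hyyA), twist, hAc _ (hAt _ hyyA) _ (inv_mem hdA), ← mul_assoc,
      hAc _ (inv_mem hyyA) _ (inv_mem hdA), mul_assoc]
  obtain ⟨η, hη⟩ := mem_zpowers_iff.1 (show y * d * y⁻¹ ∈ zpowers d by
    rw [← hd', hydy]; exact mul_mem (inv_mem hdI) (htw _ (mul_mem hyS hyS)))
  haveI hIn : I.Normal := by
    refine ⟨fun x hx g => ?_⟩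
    have hA' : ∀ g ∈ A, g * x * g⁻¹ ∈ I := fun g hg => by
      rw [hAc g hg x (hIA hx), mul_inv_cancel_right]; exact hx
    have hy' : ∀ x ∈ I, y * x * y⁻¹ ∈ I := fun x hx => by
      rw [hd'] at hx
      obtain ⟨i, rfl⟩ := mem_zpowers_iff.1 hx
      rw [conj_pow_of hη.symm, hd']; exact zpow_mem (mem_zpowers d) _
    have ht' : ∀ x ∈ I, t * x * t ∈ I := fun x hx => by
      rw [((hI x).1 hx).2]; exact inv_mem hx
    have hS' : ∀ g ∈ S, g * x * g⁻¹ ∈ I := by
      intro g hg
      by_cases hgA : g ∈ A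
      · exact hA' g hgA
      · have hga : y⁻¹ * g ∈ A :=
          hcov _ (inv_mem hyS) g hg (fun e => hyA ((Subgroup.inv_mem_iff A).1 e)) hgA
        have := hy' _ (hA' _ hga)
        rwa [show y * (y⁻¹ * g * x * (y⁻¹ * g)⁻¹) * y⁻¹ = g * x * g⁻¹ by group] at this
    rcases h.out g with hg | hg
    · exact hS' g hg
    · have := ht' _ (hS' _ hg)
      rwa [mul_inv_rev, show t * (t * g * x * (g⁻¹ * t⁻¹)) * t = (t * t) * (g * x * g⁻¹) * (t⁻¹ * t) by group,
        h.tt, one_mul, inv_mul_cancel, mul_one] at this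
  have hvy : y * v * y⁻¹ * v⁻¹ ∈ I := by
    rcases hv y with e' | e' <;> rw [e', hvi]
    · rw [vv]; exact one_mem _
    · rw [hvz, mul_assoc, vv, mul_one]; exact hzI
  have hdec : ∀ x ∈ S, ∃ i j : ℤ, ∃ w ∈ I, x = y ^ i * v ^ j * w := by
    intro x hx
    have hA' : ∀ u ∈ A, ∃ j : ℤ, ∃ w ∈ I, u = v ^ j * w := fun u hu => by
      rcases hcovI u hu with e' | e'
      · exact ⟨0, u, e', by rw [zpow_zero, one_mul]⟩
      · exact ⟨1, u * v, e', by rw [zpow_one, hAc v hvA _ (hIA e'), mul_assoc, vv, mul_one]⟩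
    by_cases hxA : x ∈ A
    · obtain ⟨j, w, hw, e'⟩ := hA' x hxA
      exact ⟨0, j, w, hw, by rw [zpow_zero, one_mul, e']⟩
    · obtain ⟨j, w, hw, e'⟩ := hA' _ (hcov _ (inv_mem hyS) x hx
        (fun e => hyA ((Subgroup.inv_mem_iff A).1 e)) hxA)
      exact ⟨1, j, w, hw, by rw [zpow_one, mul_assoc, ← e', mul_inv_cancel_left]⟩
  have hcomm : ∀ p ∈ S, ∀ q ∈ S, p * q * p⁻¹ * q⁻¹ ∈ I := comm_mem hvy hdec
  have hsqA : ∀ u ∈ A, u * u ∈ I := by
    intro u hu
    rcases hcovI u hu with e' | e'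
    · exact mul_mem e' e'
    · have : u * u = (u * v) * (u * v) := by
        rw [(show Commute u v from hAc u hu v hvA).symm.mul_mul_mul_comm, vv, mul_one]
      rw [this]; exact mul_mem e' e'
  have hinvA2 : ∀ x ∈ A, x * x = 1 → x = 1 ∨ x = z ∨ x = v ∨ x = v * z := by
    intro x hx hxx
    rcases hcovI x hx with e' | e'
    · rcases h.fixed_invol (hAS hx) hxx (fixed_of_inverted h.tt hxx e'.2) with e'' | e''
      · exact Or.inl e''
      · exact Or.inr (Or.inl (e''.trans hz.symm))
    · have hxv : x * v * (x * v) = 1 := by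
        rw [(show Commute x v from hAc x hx v hvA).symm.mul_mul_mul_comm, vv, mul_one, hxx]
      have hxe : x = (x * v) * v := by rw [mul_assoc, vv, mul_one]
      rcases h.fixed_invol (hAS e'.1) hxv (fixed_of_inverted h.tt hxv e'.2) with e'' | e''
      · exact Or.inr (Or.inr (Or.inl (by rw [hxe, e'', one_mul])))
      · exact Or.inr (Or.inr (Or.inr (by rw [hxe, e'', ← hz, hvz])))
  have hzsq : ∀ u ∈ A, (u * u) * (u * u) = 1 → u * u = 1 ∨ u * u = z := by
    intro u hu e
    have := hsqA u hu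
    rcases h.fixed_invol (hAS this.1) e (fixed_of_inverted h.tt e this.2) with e'' | e''
    exacts [Or.inl e'', Or.inr (e''.trans hz.symm)]
  -- the squares of the elements outside `A`
  have hout : ∀ x ∈ S, x ∉ A → ∃ i : ℤ, (x = y * d ^ i ∨ x = y * (d ^ i * v)) := by
    intro x hx hxA
    obtain ⟨i, hi⟩ := hAd _ (hcov _ (inv_mem hyS) x hx
      (fun e => hyA ((Subgroup.inv_mem_iff A).1 e)) hxA)
    exact ⟨i, hi.imp (fun e => by rw [← e, mul_inv_cancel_left]) fun e => by rw [← e, mul_inv_cancel_left]⟩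
  have hydsq : ∀ i : ℤ, y * d ^ i * (y * d ^ i) = y * y * d ^ (η * i + i) := by
    intro i
    have hyi : y⁻¹ * d ^ i * y = d ^ (η * i) := by
      rw [← conj_pow_of hη.symm,
        show y⁻¹ * d ^ i * y = y⁻¹ * d ^ i * ((y * y) * y⁻¹) by group, ← mul_assoc,
        mul_assoc y⁻¹ (d ^ i), hAc _ (zpow_mem hdA i) _ hyyA]
      group
    rw [zpow_add, ← hyi]; group
  by_cases hyI : y * y ∈ I
  · -- `S / I` is elementary
    obtain ⟨l, hl⟩ := mem_zpowers_iff.1 (show y * y ∈ zpowers d by rw [← hd']; exact hyI)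
    have hyy' : ∀ x ∈ S, x ∈ I ∨ y⁻¹ * x ∈ I ∨ x * v ∈ I ∨ y⁻¹ * x * v ∈ I := by
      intro x hx
      by_cases hxA : x ∈ A
      · exact (hcovI x hxA).imp id fun e => Or.inr (Or.inl e)
      · exact Or.inr ((hcovI _ (hcov _ (inv_mem hyS) x hx
          (fun e => hyA ((Subgroup.inv_mem_iff A).1 e)) hxA)).imp id Or.inr)
    have hyJ : ∀ x ∈ I, y * x * y⁻¹ ∈ I := fun x hx => hIn.conj_mem x hx y
    let M : Subgroup W :=
      { carrier := {x | x ∈ I ∨ y⁻¹ * x ∈ I}
        one_mem' := Or.inl I.one_mem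
        mul_mem' := by
          intro p q hp hq
          rcases hp with hp | hp <;> rcases hq with hq | hq
          · exact Or.inl (mul_mem hp hq)
          · refine Or.inr ?_
            rw [show y⁻¹ * (p * q) = (y⁻¹ * p * (y⁻¹)⁻¹) * (y⁻¹ * q) by group]
            exact mul_mem (hIn.conj_mem p hp y⁻¹) hq
          · refine Or.inr ?_
            rw [← mul_assoc]; exact mul_mem hp hq
          · refine Or.inl ?_
            rw [show p * q = (y * (y⁻¹ * p) * y⁻¹) * ((y * y) * (y⁻¹ * q)) by group]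
            exact mul_mem (hIn.conj_mem _ hp y) (mul_mem hyI hq)
        inv_mem' := by
          intro p hp
          rcases hp with hp | hp
          · exact Or.inl (inv_mem hp)
          · refine Or.inr ?_
            rw [show y⁻¹ * p⁻¹ = (y⁻¹ * (y⁻¹ * p)⁻¹ * (y⁻¹)⁻¹) * (y * y)⁻¹ by group]
            exact mul_mem (hIn.conj_mem _ (inv_mem hp) y⁻¹) (inv_mem hyI) }
    have hM : ∀ x, x ∈ M ↔ x ∈ I ∨ y⁻¹ * x ∈ I := fun x => Iff.rfl
    have hIM : I ≤ M := fun x hx => Or.inl hx
    have hMS : M ≤ S := by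
      intro x hx
      rcases (hM x).1 hx with e' | e'
      · exact hAS (hIA e')
      · have := mul_mem hyS (hAS (hIA e'))
        rwa [mul_inv_cancel_left] at this
    have hvM : v ∉ M := fun hm => by
      rcases (hM v).1 hm with e' | e'
      · exact hvI e'
      · exact hyA ((Subgroup.inv_mem_iff A).1 ((A.mul_mem_cancel_right hvA).1 (hIA e')))
    have hidx : ∀ x ∈ S, x ∈ M ∨ x * v ∈ M := by
      intro x hx
      rcases hyy' x hx with e' | e' | e' | e'
      · exact Or.inl (Or.inl e')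
      · exact Or.inl (Or.inr e')
      · exact Or.inr (Or.inl e')
      · exact Or.inr (Or.inr (by rwa [← mul_assoc]))
    rcases hv y with hyv | hyv
    · -- `v` is central in `S`
      left
      have hcent : ∀ x ∈ S, x * v = v * x := by
        intro x hx
        by_cases hxA : x ∈ A
        · exact hAc x hxA v hvA
        · obtain ⟨i, e' | e'⟩ := hout x hx hxA
          · rw [e', mul_assoc, (hdv.zpow_left i).eq, ← mul_assoc, mul_inv_eq_iff_eq_mul.1 hyv, mul_assoc]
          · rw [e', mul_assoc, mul_assoc (d ^ i), ← mul_assoc v, ← mul_inv_eq_iff_eq_mul.1 hyv, mul_assoc,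
              ← mul_assoc v, (hdv.zpow_left i).symm.eq, mul_assoc]
      have hnab : ¬ y * d = d * y := by
        intro hc
        have e1 : y * d * y⁻¹ = d := mul_inv_eq_iff_eq_mul.2 hc
        rw [hydy, ← hl, twist, t_conj h.tt (e := -1) (by rw [zpow_neg_one]; exact hdI.2) l,
          ← zpow_neg_one, ← zpow_neg, ← zpow_add, ← zpow_add] at e1
        conv_rhs at e1 => rw [← zpow_one d]
        obtain ⟨c, hc'⟩ := (zpow_eq_iff hn).1 e1
        have h4 : (4 : ℤ) ∣ 2 ^ n := by
          rw [show (4 : ℤ) = 2 ^ 2 by norm_num]; exact pow_dvd_pow 2 hn2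
        obtain ⟨m, hm⟩ := h4
        rw [hm, mul_assoc] at hc'
        have hlo : Odd l := ⟨(l - 1) / 2, by omega⟩
        -- then the quotient is cyclic, generated by `y`
        refine hyA ?_
        show π y ∈ zpowers (π a)
        refine hcyc' _ (mem_map_of_mem π ((hT y).2 ⟨hyS, hcent y hyS⟩)) ?_
        rintro _ ⟨x, hx, rfl⟩
        have hvπ : π v = 1 := hπ.2 ((hV v).2 (by simp))
        have hdy : ∀ i : ℤ, π (d ^ i) ∈ zpowers (π y) := fun i => by
          obtain ⟨u, hu⟩ := exists_gen_zpow hn hlo i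
          rw [← hu, hl, map_zpow, map_mul]
          exact zpow_mem (mul_mem (mem_zpowers _) (mem_zpowers _)) u
        by_cases hxA : x ∈ A
        · obtain ⟨i, e' | e'⟩ := hAd x hxA
          · rw [e']; exact hdy i
          · rw [e', map_mul, hvπ, mul_one]; exact hdy i
        · obtain ⟨i, e' | e'⟩ := hout x ((hT x).1 hx).1 hxA
          · rw [e', map_mul]; exact mul_mem (mem_zpowers _) (hdy i)
          · rw [e', map_mul, map_mul, hvπ, mul_one]; exact mul_mem (mem_zpowers _) (hdy i)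
      refine ⟨M, hMS, vS, vv, v1, fun p hp q hq => hIM (hcomm p hp q hq), hIM hzI, hvM,
        fun x hx _ => hidx x hx, hcent, fun x hx hxx hxc => ?_, Or.inl fun x hx => ?_⟩
      · refine hinvA2 x ?_ hxx
        by_contra hxA
        refine hnab ?_
        obtain ⟨i, e'⟩ := hout x hx hxA
        obtain ⟨u, huA, rfl⟩ : ∃ u ∈ A, x = y * u := by
          rcases e' with e' | e'
          exacts [⟨_, zpow_mem hdA i, e'⟩, ⟨_, mul_mem (zpow_mem hdA i) hvA, e'⟩]
        have := hxc d (hAS hdA)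
        rw [mul_assoc, hAc u huA d hdA, ← mul_assoc, ← mul_assoc] at this
        exact mul_right_cancel this
      · by_cases hxA : x ∈ A
        · exact hIM (hsqA x hxA)
        · obtain ⟨i, e' | e'⟩ := hout x hx hxA
          · rw [e', hydsq, ← hl, ← zpow_add]; exact hIM (by rw [hd']; exact zpow_mem (mem_zpowers d) _)
          · have hc := hcent (y * d ^ i) (mul_mem hyS (hAS (zpow_mem hdA i)))
            rw [e', show y * (d ^ i * v) * (y * (d ^ i * v)) = (y * d ^ i * v) * (y * d ^ i * v) by group,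
              (show Commute (y * d ^ i) v from hc).symm.mul_mul_mul_comm, vv, mul_one,
              hydsq, ← hl, ← zpow_add]
            exact hIM (by rw [hd']; exact zpow_mem (mem_zpowers d) _)
    · -- `v` is moved by `y`
      refine Or.inr (Or.inl ⟨M, A, hMS, vS, vv, v1, fun p hp q hq => hIM (hcomm p hp q hq), hIM hzI, hvM,
        fun x hx _ => hidx x hx, hAS, hvA, ⟨r, hrA, hz.symm⟩, fun u hu => hAc u hu v hvA, ?_, hzsq, hS2,
        ⟨y, hyS, hyv⟩, ?_, ?_⟩)
      · intro x hx hxv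
        by_contra hxA
        obtain ⟨i, e'⟩ := hout x hx hxA
        obtain ⟨u, huA, rfl⟩ : ∃ u ∈ A, x = y * u := by
          rcases e' with e' | e'
          exacts [⟨_, zpow_mem hdA i, e'⟩, ⟨_, mul_mem (zpow_mem hdA i) hvA, e'⟩]
        rw [mul_assoc, hAc u huA v hvA, ← mul_assoc, mul_inv_eq_iff_eq_mul.1 hyv, ← mul_assoc] at hxv
        exact hz1 (mul_eq_left.1 (mul_right_cancel (mul_right_cancel hxv)))
      · intro x hx hxx hxc
        by_cases hxA : x ∈ A
        · have := hxc y hyS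
          rcases hinvA2 x hxA hxx with e' | e' | e' | e'
          · exact Or.inl e'
          · exact Or.inr e'
          · rw [e', mul_inv_eq_iff_eq_mul.1 hyv] at this
            exact absurd (left_eq_mul.1 (mul_right_cancel this)) hz1
          · rw [e', ← mul_assoc, mul_inv_eq_iff_eq_mul.1 hyv, mul_assoc (v * z) y z, hzc y, ← mul_assoc (v * z)] at this
            exact absurd (left_eq_mul.1 (mul_right_cancel this)) hz1
        · obtain ⟨i, e'⟩ := hout x hx hxA
          obtain ⟨u, huA, rfl⟩ : ∃ u ∈ A, x = y * u := by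
            rcases e' with e' | e'
            exacts [⟨_, zpow_mem hdA i, e'⟩, ⟨_, mul_mem (zpow_mem hdA i) hvA, e'⟩]
          have := hxc v vS
          rw [mul_assoc, hAc u huA v hvA, ← mul_assoc, mul_inv_eq_iff_eq_mul.1 hyv, ← mul_assoc] at this
          exact absurd (mul_eq_left.1 (mul_right_cancel (mul_right_cancel this))) hz1
      · intro x hx hxx hxM
        by_cases hxA : x ∈ A
        · rcases hinvA2 x hxA hxx with e' | e' | e' | e'
          · exact absurd (e' ▸ M.one_mem) hxM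
          · exact absurd (e' ▸ hIM hzI) hxM
          · exact Or.inl e'
          · exact Or.inr e'
        · exfalso
          obtain ⟨i, e' | e'⟩ := hout x hx hxA
          · refine hxM ((hM x).2 (Or.inr ?_))
            rw [e', inv_mul_cancel_left, hd']; exact zpow_mem (mem_zpowers d) _
          · -- the square is an odd power of `y * y` times `z`
            have hyv' : v * y = y * v * z := by
              calc v * y = v * (z * z) * y := by rw [hzz, mul_one]
                _ = (v * z) * (z * y) := by group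
                _ = (v * z) * y * z := by rw [← hzc y]; group
                _ = _ := by rw [← mul_inv_eq_iff_eq_mul.1 hyv]
            have e1 : x * x = y * y * d ^ (η * i + i) * z := by
              rw [e', show y * (d ^ i * v) * (y * (d ^ i * v)) = y * d ^ i * (v * y) * (d ^ i * v) by group,
                hyv', show y * d ^ i * (y * v * z) * (d ^ i * v) = y * d ^ i * y * (v * (z * (d ^ i * v))) by group,
                ← hzc (d ^ i * v), show y * d ^ i * y * (v * (d ^ i * v * z)) = y * d ^ i * y * (v * d ^ i) * v * z by group,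
                (hdv.zpow_left i).symm.eq,
                show y * d ^ i * y * (d ^ i * v) * v * z = (y * d ^ i * (y * d ^ i)) * (v * v) * z by group, vv,
                mul_one, hydsq]
            have hc : y * y ≠ z := hyz hyv
            rw [e1, ← hl, ← hhz, ← zpow_add, ← zpow_add, ← zpow_zero d, zpow_eq_iff hn] at hxx
            -- the conjugation exponent
            have e2 : y * d * y⁻¹ = d ^ (-1 + (-l + -l)) := by
              rw [hydy, ← hl, twist, t_conj h.tt (e := -1) (by rw [zpow_neg_one]; exact hdI.2) l,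
                ← zpow_neg_one, ← zpow_neg, ← zpow_add, ← zpow_add, neg_one_mul]
            obtain ⟨c, hc'⟩ := (zpow_eq_iff hn).1 (hη.trans e2)
            obtain ⟨m, hm⟩ := hxx
            refine hc ?_
            rw [← hl, ← hhz, zpow_eq_iff hn]
            -- `l (1 - 2i) + hh ≡ 0`, and `2 hh ≡ 0`
            have hzz' : (2 : ℤ) ^ n ∣ hh + hh := by
              have : d ^ (hh + hh) = d ^ (0 : ℤ) := by rw [zpow_add, hhz, hzz, zpow_zero]
              rw [zpow_eq_iff hn, zero_sub, dvd_neg] at this; exact this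
            obtain ⟨w, hw⟩ := hzz'
            refine (IsCoprime.pow_left (m := n) (x := (2 : ℤ)) (y := 1 - 2 * i) ⟨i, 1, by ring⟩).dvd_of_dvd_mul_right ?_
            exact ⟨m - c * i + w * (1 - i), by linear_combination hm + (1 - i) * hw - i * hc'⟩
  · -- `S / I` is cyclic
    have hyvI : y * y * v ∈ I := (hcovI _ hyyA).resolve_left hyI
    obtain ⟨l, hl0⟩ := mem_zpowers_iff.1 (show y * y * v ∈ zpowers d by rw [← hd']; exact hyvI)
    have hl : y * y = d ^ l * v := by rw [hl0, mul_assoc, vv, mul_one]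
    have huniq : ∀ x ∈ S, x * x ∈ I → x ∈ I ∨ x * v ∈ I := by
      intro x hx hxx
      by_cases hxA : x ∈ A
      · exact hcovI x hxA
      exfalso
      obtain ⟨i, e'⟩ := hout x hx hxA
      have : ∀ w ∈ A, w * w ∈ I → ∀ u : W, x = y * (d ^ i * u) → u = 1 ∨ u = v → False := by
        intro w _ _ u e hu
        let π' : W →* W ⧸ I := QuotientGroup.mk' I
        have hp : ∀ {g : W}, π' g = 1 ↔ g ∈ I := fun {g} => QuotientGroup.eq_one_iff g
        have hd1 : π' (d ^ i) = 1 := hp.2 (zpow_mem hdI i)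
        have hv2 : π' v * π' v = 1 := by rw [← map_mul, vv, map_one]
        have hc : π' v * π' y = π' y * π' v := by
          have := hp.2 hvy
          rw [map_mul, map_mul, map_mul, map_inv, map_inv, mul_inv_eq_one, mul_inv_eq_iff_eq_mul] at this
          exact this.symm
        have h1 := hp.2 hxx
        rw [e, map_mul, map_mul, map_mul, hd1, one_mul] at h1
        refine hyI (hp.1 ?_)
        rw [map_mul]
        rcases hu with hu | hu <;> rw [hu] at h1
        · rwa [map_one, mul_one] at h1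
        · rwa [(show Commute (π' y) (π' v) from hc.symm).symm.mul_mul_mul_comm, hv2, mul_one] at h1
      rcases e' with e' | e'
      · exact this 1 A.one_mem (by rw [one_mul]; exact I.one_mem) 1 (by rw [e', mul_one]) (Or.inl rfl)
      · exact this 1 A.one_mem (by rw [one_mul]; exact I.one_mem) v e' (Or.inr rfl)
    rcases hv y with hyv | hyv
    · have hcent : ∀ x ∈ S, x * v = v * x := by
        intro x hx
        by_cases hxA : x ∈ A
        · exact hAc x hxA v hvA
        · obtain ⟨i, e' | e'⟩ := hout x hx hxA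
          · rw [e', mul_assoc, (hdv.zpow_left i).eq, ← mul_assoc, mul_inv_eq_iff_eq_mul.1 hyv, mul_assoc]
          · rw [e', mul_assoc, mul_assoc (d ^ i), ← mul_assoc v, ← mul_inv_eq_iff_eq_mul.1 hyv, mul_assoc,
              ← mul_assoc v, (hdv.zpow_left i).symm.eq, mul_assoc]
      by_cases hab : y * d = d * y
      · -- abelian
        have e1 : y * d * y⁻¹ = d := mul_inv_eq_iff_eq_mul.2 hab
        have etl : twist t (y * y) = d ^ (-l + -l) * z := by
          rw [hl, twist_mul h.tt, htv, hvi, twist,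
            t_conj h.tt (e := -1) (by rw [zpow_neg_one]; exact hdI.2) l, neg_one_mul, ← zpow_neg, ← zpow_add,
            (hdv.zpow_left (-l + -l)).symm.eq, mul_assoc, ← mul_assoc v v, vv, one_mul]
        rw [hydy, etl, ← hhz, ← zpow_neg_one, ← zpow_add, ← zpow_add] at e1
        conv_rhs at e1 => rw [← zpow_one d]
        obtain ⟨c, hc⟩ := (zpow_eq_iff hn).1 e1
        have hzn : ¬ (2 : ℤ) ^ n ∣ hh := fun hd0 => hz1 (by
          rw [← hhz, ← zpow_zero d, zpow_eq_iff hn, zero_sub, dvd_neg]; exact hd0)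
        have hzz' : (2 : ℤ) ^ n ∣ hh + hh := by
          have : d ^ (hh + hh) = d ^ (0 : ℤ) := by rw [zpow_add, hhz, hzz, zpow_zero]
          rw [zpow_eq_iff hn, zero_sub, dvd_neg] at this; exact this
        obtain ⟨m, hm⟩ : ∃ m, n = m + 2 := ⟨n - 2, by omega⟩
        have hp : (2 : ℤ) ^ n = 4 * 2 ^ m := by rw [hm, pow_add]; ring
        obtain ⟨w, hw⟩ := hzz'
        rw [hp] at hw hc hzn
        have hh2 : hh = 2 * (2 ^ m * w) := mul_left_cancel₀ two_ne_zero (by linear_combination hw)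
        have hl1 : l + 1 - 2 ^ m * w = 2 * (2 ^ m * c) := mul_left_cancel₀ two_ne_zero (by linear_combination hc + hh2)
        by_cases hlo : Odd l
        · exfalso
          refine hyA ?_
          show π y ∈ zpowers (π a)
          refine hcyc' _ (mem_map_of_mem π ((hT y).2 ⟨hyS, hcent y hyS⟩)) ?_
          rintro _ ⟨x, hx, rfl⟩
          have hvπ : π v = 1 := hπ.2 ((hV v).2 (by simp))
          have hdy : ∀ i : ℤ, π (d ^ i) ∈ zpowers (π y) := fun i => by
            obtain ⟨u, hu⟩ := exists_gen_zpow hn hlo i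
            rw [← hu, map_zpow, show π (d ^ l) = π y * π y by rw [← map_mul, hl, map_mul, hvπ, mul_one]]
            exact zpow_mem (mul_mem (mem_zpowers _) (mem_zpowers _)) u
          by_cases hxA : x ∈ A
          · obtain ⟨i, e' | e'⟩ := hAd x hxA
            · rw [e']; exact hdy i
            · rw [e', map_mul, hvπ, mul_one]; exact hdy i
          · obtain ⟨i, e' | e'⟩ := hout x ((hT x).1 hx).1 hxA
            · rw [e', map_mul]; exact mul_mem (mem_zpowers _) (hdy i)
            · rw [e', map_mul, map_mul, hvπ, mul_one]; exact mul_mem (mem_zpowers _) (hdy i)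
        · right; right
          rw [Int.not_odd_iff_even] at hlo
          obtain ⟨l', hl'⟩ := hlo
          have hm0 : m = 0 := by
            by_contra hm'
            obtain ⟨m', rfl⟩ : ∃ m', m = m' + 1 := ⟨m - 1, by omega⟩
            rw [hl', pow_succ, show (2 : ℤ) ^ m' * 2 * w = 2 * (2 ^ m' * w) by ring] at hl1
            omega
          have hd4 : d ^ 4 = 1 := by
            rw [show 4 = 2 ^ n by rw [hm, hm0]; norm_num, ← hn, pow_orderOf_eq_one]
          have hy4 : y ^ 4 = 1 := by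
            have hd4' : d ^ (4 : ℤ) = 1 := by rw [show (4 : ℤ) = ((4 : ℕ) : ℤ) by norm_num, zpow_natCast, hd4]
            calc y ^ 4 = (y * y) * (y * y) := by simp [pow_succ, mul_assoc]
              _ = d ^ (l + l) * (v * v) := by
                rw [hl, (hdv.zpow_left l).symm.mul_mul_mul_comm, ← zpow_add]
              _ = (d ^ (4 : ℤ)) ^ l' := by rw [vv, mul_one, ← zpow_mul]; congr 1; omega
              _ = 1 := by rw [hd4', one_zpow]
          refine ⟨d, y, hAS hdA, hyS, hab.symm, hd4, hy4, fun x hx => ?_, ?_⟩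
          · have hyy : v = d ^ (-l) * (y * y) := by rw [hl, ← mul_assoc, ← zpow_add, neg_add_cancel, zpow_zero, one_mul]
            have hcd : Commute y d := hab
            by_cases hxA : x ∈ A
            · obtain ⟨i, e' | e'⟩ := hAd x hxA
              · exact ⟨i, 0, by rw [e', zpow_zero, mul_one]⟩
              · exact ⟨i + -l, 2, by rw [e', hyy, zpow_add, mul_assoc, zpow_two]⟩
            · obtain ⟨i, e' | e'⟩ := hout x hx hxA
              · exact ⟨i, 1, by rw [e', zpow_one, (hcd.zpow_right i).eq]⟩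
              · refine ⟨i + -l, 3, ?_⟩
                rw [e', hyy, ← mul_assoc (d ^ i), ← zpow_add, ← mul_assoc y, (hcd.zpow_right (i + -l)).eq,
                  mul_assoc]
                congr 1; simp [zpow_ofNat, pow_succ, mul_assoc]
          · rw [hS2, hI2, hd', Nat.card_zpowers, hn, hm, hm0]; norm_num
      · left
        have hne : zpowers (y * d * y⁻¹ * d⁻¹) ≠ ⊥ := by
          rw [Ne, zpowers_eq_bot, mul_inv_eq_one, mul_inv_eq_iff_eq_mul]; exact hab
        obtain ⟨g, hg, hgg, hg1⟩ := exists_involution h.pg hne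
        obtain ⟨k', hk'⟩ := mem_zpowers_iff.1 hg
        have hgd : g ∈ zpowers d := by
          rw [← hk', ← hd']; exact zpow_mem (hcomm y hyS d (hAS hdA)) k'
        have hgz : g = z := eq_of_invol_zpowers h.pg hgd (by rw [← hd']; exact hzI) hgg hzz hg1 hz1
        refine ⟨I, fun x hx => hAS (hIA hx), vS, vv, v1, hcomm, hzI, hvI, huniq, hcent, ?_,
          Or.inr ⟨y, hyS, d ^ k', hAS (zpow_mem hdA k'), ?_⟩⟩
        · intro x hx hxx hxc
          refine hinvA2 x ?_ hxx
          by_contra hxA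
          refine hab ?_
          obtain ⟨i, e'⟩ := hout x hx hxA
          obtain ⟨u, huA, rfl⟩ : ∃ u ∈ A, x = y * u := by
            rcases e' with e' | e'
            exacts [⟨_, zpow_mem hdA i, e'⟩, ⟨_, mul_mem (zpow_mem hdA i) hvA, e'⟩]
          have := hxc d (hAS hdA)
          rw [mul_assoc, hAc u huA d hdA, ← mul_assoc, ← mul_assoc] at this
          exact mul_right_cancel this
        · have e : y * d * y⁻¹ * d⁻¹ = d ^ (η + -1) := by rw [← hη, zpow_add, zpow_neg_one]
          rw [conj_pow_of hη.symm, ← zpow_neg, ← zpow_add, ← hgz, ← hk', e, ← zpow_mul]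
          congr 1; ring
    · refine Or.inr (Or.inl ⟨I, A, fun x hx => hAS (hIA hx), vS, vv, v1, hcomm, hzI, hvI, huniq, hAS, hvA,
        ⟨r, hrA, hz.symm⟩, fun u hu => hAc u hu v hvA, ?_, hzsq, hS2, ⟨y, hyS, hyv⟩, ?_, ?_⟩)
      · intro x hx hxv
        by_contra hxA
        obtain ⟨i, e'⟩ := hout x hx hxA
        obtain ⟨u, huA, rfl⟩ : ∃ u ∈ A, x = y * u := by
          rcases e' with e' | e'
          exacts [⟨_, zpow_mem hdA i, e'⟩, ⟨_, mul_mem (zpow_mem hdA i) hvA, e'⟩]
        rw [mul_assoc, hAc u huA v hvA, ← mul_assoc, mul_inv_eq_iff_eq_mul.1 hyv, ← mul_assoc] at hxv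
        exact hz1 (mul_eq_left.1 (mul_right_cancel (mul_right_cancel hxv)))
      · intro x hx hxx hxc
        have hxA : x ∈ A := by
          rcases huniq x hx (by rw [hxx]; exact I.one_mem) with e' | e'
          · exact hIA e'
          · exact (A.mul_mem_cancel_right hvA).1 (hIA e')
        have := hxc y hyS
        rcases hinvA2 x hxA hxx with e' | e' | e' | e'
        · exact Or.inl e'
        · exact Or.inr e'
        · rw [e', mul_inv_eq_iff_eq_mul.1 hyv] at this
          exact absurd (left_eq_mul.1 (mul_right_cancel this)) hz1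
        · rw [e', ← mul_assoc, mul_inv_eq_iff_eq_mul.1 hyv, mul_assoc (v * z) y z, hzc y, ← mul_assoc (v * z)] at this
          exact absurd (left_eq_mul.1 (mul_right_cancel this)) hz1
      · intro x hx hxx hxM
        have hxA : x ∈ A := by
          rcases huniq x hx (by rw [hxx]; exact I.one_mem) with e' | e'
          · exact hIA e'
          · exact (A.mul_mem_cancel_right hvA).1 (hIA e')
        rcases hinvA2 x hxA hxx with e' | e' | e' | e'
        · exact absurd (e' ▸ I.one_mem) hxM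
        · exact absurd (e' ▸ hzI) hxM
        · exact Or.inl e'
        · exact Or.inr e'

end Cfsg.Agent.Invol.CycFour
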