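import Cfsg.Agent.Lib.Invol.CycFourFixed.Transfer
import Cfsg.Agent.Lib.Invol.CycFourFixed.Four

/-!
# Perfect groups with the configurations of the four-group case
-/

set_option autoImplicit false

namespace Cfsg.Agent.Invol.CycFour

open Subgroup

universe u

variable {G : Type u} [Group G] [Finite G]

omit [Finite G] in
theorem hom_eq_one_of_perfect {L : Subgroup G} (hL : ⁅L, L⁆ = L) {A : Type*} [CommGroup A] (f : G →* A)
    {x : G} (hx : x ∈ L) : f x = 1 := by
  have : ⁅L, L⁆ ≤ f.ker := Subgroup.commutator_le.2 fun a _ b _ => by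
    rw [MonoidHom.mem_ker, commutatorElement_def, map_mul, map_mul, map_mul, map_inv, map_inv,
      mul_comm (f a) (f b), mul_inv_cancel_right, mul_inv_cancel]
  rw [hL] at this
  exact this hx

/-- A subgroup normalised by the coset representative `x` is mapped onto itself. -/
theorem conj_surj {P : Subgroup G} {x : G} (hx : ∀ r ∈ P, x⁻¹ * r * x ∈ P) {y : G} (hy : y ∈ P) :
    x * y * x⁻¹ ∈ P := by
  let f : P → P := fun r => ⟨x⁻¹ * r * x, hx r r.2⟩
  have hf : Function.Bijective f := Finite.injective_iff_bijective.1 fun a b e => by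
    have := congrArg Subtype.val e
    exact Subtype.ext (mul_left_cancel (mul_right_cancel this))
  obtain ⟨r, hr⟩ := hf.2 ⟨y, hy⟩
  have : x⁻¹ * r * x = y := congrArg Subtype.val hr
  rw [← this, show x * (x⁻¹ * r * x) * x⁻¹ = (r : G) by group]
  exact r.2

/-- A central involution with the separation property is not present. -/
theorem central_false (hperf : ∀ (A : Type u) [CommGroup A] (f : G →* A) (x : G), f x = 1) (P : Sylow 2 G)
    {z v : G} {M : Subgroup G} (hz : z * z = 1) (hsq : ∃ r ∈ (P : Subgroup G), r * r = z)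
    (d : CentralData (P : Subgroup G) z v M) : False := by
  classical
  haveI : Fact (Nat.Prime 2) := ⟨Nat.prime_two⟩
  have hv2 : v * v ∈ M := by rw [d.vv]; exact M.one_mem
  have heven := even_outside (P : Subgroup G) M d.le d.comm d.vS hv2 d.vM d.uniq d.vv (one_mul (1 : G))
    (fun A _ f => by rw [hperf A f v, map_one])
    (fun x _ => by rw [mul_one, inv_mul_cancel]; exact M.one_mem)
  set T : G ⧸ (P : Subgroup G) → Prop := fun q =>
    ∃ x : G, QuotientGroup.mk x = q ∧ x⁻¹ * v * x ∈ (P : Subgroup G) ∧ x⁻¹ * v * x ∉ M with hTdef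
  have hinv : ∀ s ∈ (P : Subgroup G), ∀ q, T q → T (s • q) := by
    rintro s hs q ⟨x, rfl, h1, h2⟩
    refine ⟨s * x, rfl, ?_⟩
    have : (s * x)⁻¹ * v * (s * x) = x⁻¹ * v * x := by
      calc (s * x)⁻¹ * v * (s * x) = x⁻¹ * s⁻¹ * (v * s) * x := by group
        _ = x⁻¹ * s⁻¹ * (s * v) * x := by rw [d.cent s hs]
        _ = _ := by group
    rw [this]
    exact ⟨h1, h2⟩
  have hcl := card_invariant_modEq P.isPGroup' T hinv
  have hall := card_invariant_modEq P.isPGroup' (fun _ : G ⧸ (P : Subgroup G) => True) (fun _ _ _ _ => trivial)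
  have hiff : ∀ q : G ⧸ (P : Subgroup G), (T q ∧ ∀ r ∈ (P : Subgroup G), r • q = q) ↔
      (True ∧ ∀ r ∈ (P : Subgroup G), r • q = q) := by
    intro q
    refine ⟨fun h => ⟨trivial, h.2⟩, fun h => ⟨?_, h.2⟩⟩
    induction q using QuotientGroup.induction_on with
    | H x =>
      have hx : ∀ r ∈ (P : Subgroup G), x⁻¹ * r * x ∈ (P : Subgroup G) := fun r hr =>
        Cfsg.Agent.Invol.smul_mk_eq_iff.1 (h.2 r hr)
      have hxi : ∀ y ∈ (P : Subgroup G), x * y * x⁻¹ ∈ (P : Subgroup G) := fun y hy => conj_surj hx hy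
      refine ⟨x, rfl, hx v d.vS, fun hm => ?_⟩
      have hc : ∀ y ∈ (P : Subgroup G), x⁻¹ * v * x * y = y * (x⁻¹ * v * x) := by
        intro y hy
        calc x⁻¹ * v * x * y = x⁻¹ * (v * (x * y * x⁻¹)) * x := by group
          _ = x⁻¹ * ((x * y * x⁻¹) * v) * x := by rw [d.cent _ (hxi y hy)]
          _ = _ := by group
      have hxx : x⁻¹ * v * x * (x⁻¹ * v * x) = 1 := by
        rw [show x⁻¹ * v * x * (x⁻¹ * v * x) = x⁻¹ * (v * v) * x by group, d.vv, mul_one, inv_mul_cancel]
      rcases d.invol _ (hx v d.vS) hxx hc with e | e | e | e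
      · exact d.v1 (by
          have : v = x * (x⁻¹ * v * x) * x⁻¹ := by group
          rw [this, e, mul_one, mul_inv_cancel])
      · -- `z` is separated from `v`
        have hvz : v = x * z * x⁻¹ := by rw [← e]; group
        rcases d.sep with hs | ⟨p, hp, q, hq, hpq⟩
        · obtain ⟨r, hr, hrr⟩ := hsq
          refine d.vM ?_
          rw [hvz, ← hrr, conj_sq]
          exact hs _ (hxi r hr)
        · refine d.vM ?_
          rw [hvz, ← hpq, show x * (p * q * p⁻¹ * q⁻¹) * x⁻¹ =
            (x * p * x⁻¹) * (x * q * x⁻¹) * (x * p * x⁻¹)⁻¹ * (x * q * x⁻¹)⁻¹ by group]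
          exact d.comm _ (hxi p hp) _ (hxi q hq)
      · exact d.vM (e ▸ hm)
      · rw [e] at hm
        exact d.vM ((M.mul_mem_cancel_right d.zM).1 hm)
  have hodd : Odd (Nat.card (G ⧸ (P : Subgroup G))) := by
    rw [← Subgroup.index_eq_card, Nat.odd_iff, ← Nat.two_dvd_ne_zero]
    exact P.not_dvd_index
  rw [Nat.card_congr (Equiv.subtypeUnivEquiv (fun _ => trivial))] at hall
  rw [Nat.card_congr (Equiv.subtypeEquivRight hiff)] at hcl
  have h2 : Nat.card (G ⧸ (P : Subgroup G)) % 2 = Nat.card {q // T q} % 2 := hall.trans hcl.symm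
  rw [Nat.odd_iff] at hodd
  rw [Nat.even_iff] at heven
  have : Nat.card {q // T q} % 2 = 0 := heven
  omega

/-- The centraliser of index two case is not present. -/
theorem moved_false (hperf : ∀ (A : Type u) [CommGroup A] (f : G →* A) (x : G), f x = 1) (P : Sylow 2 G)
    {z v : G} {M A₀ : Subgroup G} (hz : z * z = 1) (hz1 : z ≠ 1)
    (hzc : ∀ y ∈ (P : Subgroup G), z * y = y * z) (d : MovedData (P : Subgroup G) z v M A₀) : False := by
  classical
  haveI : Fact (Nat.Prime 2) := ⟨Nat.prime_two⟩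
  have hv2 : v * v ∈ M := by rw [d.vv]; exact M.one_mem
  have heven := even_outside (P : Subgroup G) M d.le d.comm d.vS hv2 d.vM d.uniq d.vv (one_mul (1 : G))
    (fun A _ f => by rw [hperf A f v, map_one])
    (fun x _ => by rw [mul_one, inv_mul_cancel]; exact M.one_mem)
  have hA : (P : Subgroup G) ⊓ centralizer ({v} : Set G) = A₀ := by
    refine le_antisymm (fun x hx => d.centA x (mem_inf.1 hx).1 (mem_centralizer_singleton_iff.1 (mem_inf.1 hx).2))
      (fun x hx => mem_inf.2 ⟨d.Ale hx, mem_centralizer_singleton_iff.2 (d.cA x hx)⟩)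
  obtain ⟨y, hy, hyv⟩ := d.moved
  -- `v` is not conjugate to `z`
  have hnc : ∀ g : G, g⁻¹ * v * g ≠ z := by
    intro g hg
    let C : Subgroup G := centralizer ({z} : Set G)
    have hPC : (P : Subgroup G) ≤ C := fun x hx => mem_centralizer_singleton_iff.2 (hzc x hx).symm
    let B : Subgroup G := A₀.map (MulAut.conj g⁻¹).toMonoidHom
    have hBC : B ≤ C := by
      rintro _ ⟨a, ha, rfl⟩
      refine mem_centralizer_singleton_iff.2 ?_
      change g⁻¹ * a * g⁻¹⁻¹ * z = z * (g⁻¹ * a * g⁻¹⁻¹)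
      rw [← hg, inv_inv, show g⁻¹ * a * g * (g⁻¹ * v * g) = g⁻¹ * (a * v) * g by group, d.cA a ha]
      group
    have hB : IsPGroup 2 B := (P.isPGroup'.to_le d.Ale).map _
    obtain ⟨c, hc⟩ := exists_conj_subset_sylow (H := B.subgroupOf C)
      (hB.comap_of_injective C.subtype C.subtype_injective) (P.subtype hPC)
    set g' := g * (c : G)⁻¹ with hg'
    have hg'v : g'⁻¹ * v * g' = z := by
      have hcz : (c : G) * z = z * c := mem_centralizer_singleton_iff.1 c.2
      rw [hg', show (g * (c : G)⁻¹)⁻¹ * v * (g * (c : G)⁻¹) = c * (g⁻¹ * v * g) * (c : G)⁻¹ by group, hg, hcz,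
        mul_inv_cancel_right]
    have hmap : ∀ a ∈ A₀, g'⁻¹ * a * g' ∈ (P : Subgroup G) := by
      intro a ha
      have hb : g⁻¹ * a * g ∈ B := ⟨a, ha, by simp⟩
      have hm := hc ⟨g⁻¹ * a * g, hBC hb⟩ (mem_subgroupOf.2 hb)
      have : ((c * ⟨g⁻¹ * a * g, hBC hb⟩ * c⁻¹ : C) : G) ∈ (P : Subgroup G) := mem_subgroupOf.1 hm
      simp only [Subgroup.coe_mul, Subgroup.coe_inv] at this
      rwa [hg', show (g * (c : G)⁻¹)⁻¹ * a * (g * (c : G)⁻¹) = c * (g⁻¹ * a * g) * (c : G)⁻¹ by group]
    let B' : Subgroup G := A₀.map (MulAut.conj g'⁻¹).toMonoidHom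
    have hB'P : B' ≤ (P : Subgroup G) := by
      rintro _ ⟨a, ha, rfl⟩
      simpa using hmap a ha
    have hi : (B'.subgroupOf (P : Subgroup G)).index = 2 := by
      have h1 := Subgroup.card_mul_index (B'.subgroupOf (P : Subgroup G))
      rw [Nat.card_congr (Subgroup.subgroupOfEquivOfLe hB'P).toEquiv,
        Subgroup.card_map_of_injective (MulEquiv.injective _), d.index, mul_comm 2] at h1
      exact Nat.eq_of_mul_eq_mul_left Nat.card_pos h1
    haveI hn := Subgroup.normal_of_index_eq_two hi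
    obtain ⟨r, hr, hrr⟩ := d.rA
    have hz' : ∀ s ∈ (P : Subgroup G), s * (g'⁻¹ * z * g') * s⁻¹ = g'⁻¹ * z * g' := by
      intro s hs
      have hm : g'⁻¹ * r * g' ∈ B' := ⟨r, hr, by simp⟩
      have hc' := hn.conj_mem ⟨_, hB'P hm⟩ (mem_subgroupOf.2 hm) ⟨s, hs⟩
      rw [mem_subgroupOf] at hc'
      obtain ⟨u, hu, hue⟩ := hc'
      have hue' : g'⁻¹ * u * g' = s * (g'⁻¹ * r * g') * s⁻¹ := by simpa using hue
      have e1 : s * (g'⁻¹ * z * g') * s⁻¹ = g'⁻¹ * (u * u) * g' := by
        rw [← hrr, show s * (g'⁻¹ * (r * r) * g') * s⁻¹ =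
          (s * (g'⁻¹ * r * g') * s⁻¹) * (s * (g'⁻¹ * r * g') * s⁻¹) by group, ← hue']
        group
      have e2 : u * u * (u * u) = 1 := by
        have h4 : (g'⁻¹ * (u * u) * g') * (g'⁻¹ * (u * u) * g') = 1 := by
          rw [← e1, ← conj_sq, show g'⁻¹ * z * g' * (g'⁻¹ * z * g') = g'⁻¹ * (z * z) * g' by group, hz]
          group
        rw [show g'⁻¹ * (u * u) * g' * (g'⁻¹ * (u * u) * g') = g'⁻¹ * (u * u * (u * u)) * g' by group] at h4
        rw [show u * u * (u * u) = g' * (g'⁻¹ * (u * u * (u * u)) * g') * g'⁻¹ by group, h4]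
        group
      rcases d.sqA u hu e2 with e | e
      · exfalso
        rw [e, mul_one, inv_mul_cancel, conj_eq_one_iff,
          show g'⁻¹ * z * g' = 1 ↔ z = 1 by rw [mul_assoc, inv_mul_eq_one, right_eq_mul]] at e1
        exact hz1 e1
      · rw [e1, e]
    have hzP : g'⁻¹ * z * g' ∈ (P : Subgroup G) := hmap z (hrr ▸ mul_mem hr hr)
    have hzz : g'⁻¹ * z * g' * (g'⁻¹ * z * g') = 1 := by
      rw [show g'⁻¹ * z * g' * (g'⁻¹ * z * g') = g'⁻¹ * (z * z) * g' by group, hz]; group
    rcases d.invol _ hzP hzz (fun s hs => (mul_inv_eq_iff_eq_mul.1 (hz' s hs)).symm) with e | e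
    · rw [mul_assoc, inv_mul_eq_one, right_eq_mul] at e
      exact hz1 e
    · have hvz : v = z := mul_left_cancel (mul_right_cancel (hg'v.trans e.symm))
      exact d.vM (hvz ▸ d.zM)
  -- so `A₀` is a Sylow subgroup of the centraliser of `v`
  have hmax : ∀ R : Subgroup G, IsPGroup 2 R → R ≤ centralizer ({v} : Set G) →
      Nat.card R ≤ Nat.card ↥((P : Subgroup G) ⊓ centralizer ({v} : Set G)) := by
    intro R hR hRC
    rw [hA]
    by_contra hlt
    obtain ⟨g, hg⟩ := exists_conj_subset_sylow hR P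
    let R' : Subgroup G := R.map (MulAut.conj g).toMonoidHom
    have hR'P : R' ≤ (P : Subgroup G) := by
      rintro _ ⟨a, ha, rfl⟩
      exact hg a ha
    have hc : Nat.card R' = Nat.card R := Subgroup.card_map_of_injective (MulEquiv.injective _)
    have heq : R' = (P : Subgroup G) := by
      refine Subgroup.eq_of_le_of_card_ge hR'P ?_
      obtain ⟨a, ha⟩ := IsPGroup.iff_card.mp hR
      obtain ⟨b, hb⟩ := IsPGroup.iff_card.mp (P.isPGroup'.to_le d.Ale)
      rw [hc, d.index, ha, hb, ← pow_succ']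
      refine Nat.pow_le_pow_right two_pos ?_
      by_contra h'
      exact hlt (by rw [ha, hb]; exact Nat.pow_le_pow_right two_pos (by omega))
    have hgv : ∀ s ∈ (P : Subgroup G), g * v * g⁻¹ * s = s * (g * v * g⁻¹) := by
      intro s hs
      rw [← heq] at hs
      obtain ⟨a, ha, rfl⟩ := hs
      have hav : a * v = v * a := mem_centralizer_singleton_iff.1 (hRC ha)
      change g * v * g⁻¹ * (g * a * g⁻¹) = g * a * g⁻¹ * (g * v * g⁻¹)
      rw [show g * v * g⁻¹ * (g * a * g⁻¹) = g * (v * a) * g⁻¹ by group, ← hav]; group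
    have hgP : g * v * g⁻¹ ∈ (P : Subgroup G) := by
      have hsup : IsPGroup 2 ↥((P : Subgroup G) ⊔ zpowers (g * v * g⁻¹)) := by
        refine IsPGroup.to_sup_of_normal_left' P.isPGroup' (IsPGroup.of_card (n := 1) ?_) ?_
        · rw [pow_one, Nat.card_zpowers]
          refine orderOf_eq_prime ?_ fun e => d.v1 (conj_eq_one_iff.1 e)
          rw [pow_two, ← conj_sq, d.vv]; group
        · intro x hx
          obtain ⟨i, rfl⟩ := mem_zpowers_iff.1 hx
          refine mem_normalizer_iff.2 fun s => ?_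
          have hcs : ∀ s ∈ (P : Subgroup G), (g * v * g⁻¹) ^ i * s * ((g * v * g⁻¹) ^ i)⁻¹ = s := fun s hs => by
            rw [((show Commute (g * v * g⁻¹) s from hgv s hs).zpow_left i).eq, mul_inv_cancel_right]
          refine ⟨fun hs => by rwa [hcs s hs], fun hs => ?_⟩
          have := hcs _ hs
          have e2 := mul_left_cancel (mul_right_cancel this)
          rw [e2] at hs; exact hs
      have := P.is_maximal' hsup le_sup_left
      rw [← this]
      exact mem_sup_right (mem_zpowers _)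
    have hvv : g * v * g⁻¹ * (g * v * g⁻¹) = 1 := by rw [← conj_sq, d.vv]; group
    rcases d.invol _ hgP hvv hgv with e | e
    · exact d.v1 (conj_eq_one_iff.1 e)
    · exact hnc g⁻¹ (by rw [inv_inv]; exact e)
  have hodd := odd_orbit (P : Subgroup G) (centralizer ({v} : Set G)) P.isPGroup' hmax
  have hiff : ∀ q : G ⧸ (P : Subgroup G), (∃ x : G, QuotientGroup.mk x = q ∧
      x⁻¹ * v * x ∈ (P : Subgroup G) ∧ x⁻¹ * v * x ∉ M) ↔
      ∃ g ∈ centralizer ({v} : Set G), QuotientGroup.mk g = q := by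
    intro q
    constructor
    · rintro ⟨x, rfl, h1, h2⟩
      have hxx : x⁻¹ * v * x * (x⁻¹ * v * x) = 1 := by
        rw [show x⁻¹ * v * x * (x⁻¹ * v * x) = x⁻¹ * (v * v) * x by group, d.vv, mul_one, inv_mul_cancel]
      rcases d.outM _ h1 hxx h2 with e | e
      · refine ⟨x, mem_centralizer_singleton_iff.2 ?_, rfl⟩
        calc x * v = x * (x⁻¹ * v * x) := by rw [e]
          _ = v * x := by group
      · refine ⟨x * y, mem_centralizer_singleton_iff.2 ?_,
          QuotientGroup.eq.2 (by rw [mul_inv_rev, inv_mul_cancel_right]; exact inv_mem hy)⟩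
        calc x * y * v = x * (y * v * y⁻¹) * y := by group
          _ = x * (x⁻¹ * v * x) * y := by rw [hyv, e]
          _ = v * (x * y) := by group
    · rintro ⟨g, hg, rfl⟩
      have hgv : g * v = v * g := mem_centralizer_singleton_iff.1 hg
      have e : g⁻¹ * v * g = v := by rw [mul_assoc, ← hgv, inv_mul_cancel_left]
      exact ⟨g, rfl, by rw [e]; exact d.vS, by rw [e]; exact d.vM⟩
  rw [Nat.card_congr (Equiv.subtypeEquivRight hiff)] at heven
  exact (Nat.not_even_iff_odd.2 hodd) heven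

end Cfsg.Agent.Invol.CycFour
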