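import Cfsg.Agent.Lib.Invol.CycFourFixed.Kill
import Cfsg.Agent.Lib.Invol.CycFourFixed.Max
import Cfsg.Agent.Lib.Grp.Cores
import Cfsg.Agent.Lib.Grp.Frattini
import Cfsg.Agent.Lib.Block.HomocyclicTwo

/-!
# An involution of a perfect group with cyclic fixed Sylow 2-subgroup of order four
-/

set_option autoImplicit false

namespace Cfsg.Agent.Invol.CycFour

open Subgroup

universe u

/-- The powers of an element of exponent four. -/
def powHom {K : Type*} [Group K] (x : K) (hx : x ^ 4 = 1) : Multiplicative (ZMod 4) →* K where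
  toFun a := x ^ (Multiplicative.toAdd a).val
  map_one' := by simp
  map_mul' a b := by
    rw [toAdd_mul, ZMod.val_add, ← pow_eq_pow_mod _ hx, pow_add]

theorem powHom_intCast {K : Type*} [Group K] (x : K) (hx : x ^ 4 = 1) (i : ℤ) :
    powHom x hx (Multiplicative.ofAdd (i : ZMod 4)) = x ^ i := by
  show x ^ (i : ZMod 4).val = x ^ i
  rw [← zpow_natCast, ZMod.val_intCast]
  exact (zpow_eq_zpow_emod' i hx).symm

/-- A perfect group has no Sylow 2-subgroup `C₄ × C₄`. -/
theorem homocyclic_false {H : Type u} [Group H] [Finite H]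
    (hperf : ∀ (A : Type u) [CommGroup A] (f : H →* A) (x : H), f x = 1) (P : Sylow 2 H) {d y : H}
    (hd : HomData (P : Subgroup H) d y) : False := by
  classical
  haveI : Fact (Nat.Prime 2) := ⟨Nat.prime_two⟩
  haveI : (Cfsg.pPrimeCore 2 H).Normal := Grp.pPrimeCore_isNormal
  set N := Cfsg.pPrimeCore 2 H
  let f := QuotientGroup.mk' N
  have hf : Function.Surjective f := QuotientGroup.mk'_surjective N
  let Q : Sylow 2 (H ⧸ N) := P.mapSurjective hf
  have hinj : ∀ x ∈ (P : Subgroup H), f x = 1 → x = 1 := by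
    intro x hx e
    have hxN : x ∈ N := (QuotientGroup.eq_one_iff x).1 e
    obtain ⟨k, hk⟩ := P.isPGroup' ⟨x, hx⟩
    have h2 : x ^ (2 ^ k) = 1 := congrArg Subtype.val hk
    have h3 : orderOf x ∣ Nat.card N := Subgroup.orderOf_dvd_natCard N hxN
    have h4 : (orderOf x).Coprime 2 := Nat.Coprime.coprime_dvd_left h3 Grp.pPrimeCore_coprime
    exact orderOf_eq_one_iff.1 (Nat.eq_one_of_dvd_coprimes (h4.pow_right k) dvd_rfl
      (orderOf_dvd_of_pow_eq_one h2))
  let e₁ : ↥(P : Subgroup H) →* ↥(Q : Subgroup (H ⧸ N)) :=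
    { toFun := fun x => ⟨f (x : H), ⟨(x : H), x.2, rfl⟩⟩
      map_one' := Subtype.ext (map_one f)
      map_mul' := fun a b => Subtype.ext (map_mul f (a : H) (b : H)) }
  have he₁ : Function.Bijective e₁ := by
    constructor
    · intro a b e
      have e' : f (a : H) = f (b : H) := congrArg Subtype.val e
      refine Subtype.ext (mul_inv_eq_one.1 (hinj _ (mul_mem a.2 (inv_mem b.2)) ?_))
      rw [map_mul, map_inv, e', mul_inv_cancel]
    · rintro ⟨w, hw⟩
      obtain ⟨x, hx, rfl⟩ := hw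
      exact ⟨⟨x, hx⟩, rfl⟩
  let D := powHom (⟨d, hd.dS⟩ : (P : Subgroup H)) (Subtype.ext hd.d4)
  let Y := powHom (⟨y, hd.yS⟩ : (P : Subgroup H)) (Subtype.ext hd.y4)
  have hD : ∀ i : ℤ, D (Multiplicative.ofAdd (i : ZMod 4)) = (⟨d, hd.dS⟩ : (P : Subgroup H)) ^ i :=
    powHom_intCast _ _
  have hY : ∀ i : ℤ, Y (Multiplicative.ofAdd (i : ZMod 4)) = (⟨y, hd.yS⟩ : (P : Subgroup H)) ^ i :=
    powHom_intCast _ _
  have hcm : ∀ a b, Commute (D a) (Y b) := fun a b => Commute.pow_pow (Subtype.ext hd.comm) _ _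
  let DY := (MonoidHom.noncommCoprod D Y hcm)
  have hDY : Function.Surjective DY := by
    rintro ⟨x, hx⟩
    obtain ⟨i, j, rfl⟩ := hd.span x hx
    exact ⟨(Multiplicative.ofAdd (i : ZMod 4), Multiplicative.ofAdd (j : ZMod 4)), by
      rw [MonoidHom.noncommCoprod_apply, hD, hY]; rfl⟩
  have hDYb : Function.Bijective DY := by
    haveI : Fintype ↥(P : Subgroup H) := Fintype.ofFinite _
    refine (Fintype.bijective_iff_surjective_and_card DY).2 ⟨hDY, ?_⟩
    rw [← Nat.card_eq_fintype_card, ← Nat.card_eq_fintype_card, hd.card, Nat.card_prod]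
    simp
  let e : ↥(Q : Subgroup (H ⧸ N)) ≃* Multiplicative (ZMod (2 ^ 2) × ZMod (2 ^ 2)) :=
    (((MulEquiv.ofBijective e₁ he₁).symm.trans (MulEquiv.ofBijective DY hDYb).symm).trans
      (MulEquiv.prodMultiplicative (ZMod 4) (ZMod 4)).symm)
  obtain ⟨hQn, hQc, hidx⟩ := Block.homocyclic_normal Q (m := 2) le_rfl e (fun K hK ho =>
    le_bot_iff.1 ((Grp.pPrimeCore_quotient_eq_bot (G := H) (p := 2)) ▸
      Grp.le_pPrimeCore hK (Nat.coprime_two_right.2 ho)))
  haveI := hQn
  -- the quotient by `Q` is abelian, so trivial; hence `Q` is everything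
  haveI hcyc : IsCyclic ((H ⧸ N) ⧸ (Q : Subgroup (H ⧸ N))) := by
    rcases hidx with h | h
    · haveI : Subsingleton ((H ⧸ N) ⧸ (Q : Subgroup (H ⧸ N))) :=
        (Nat.card_eq_one_iff_unique.1 (by rw [← Subgroup.index_eq_card, h])).1
      infer_instance
    · haveI : Fact (Nat.Prime 3) := ⟨by norm_num⟩
      exact isCyclic_of_prime_card (p := 3) (by rw [← Subgroup.index_eq_card, h])
  letI : CommGroup ((H ⧸ N) ⧸ (Q : Subgroup (H ⧸ N))) := IsCyclic.commGroup
  have hall : ∀ x : H ⧸ N, x ∈ (Q : Subgroup (H ⧸ N)) := fun x => by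
    obtain ⟨g, rfl⟩ := hf x
    exact (QuotientGroup.eq_one_iff _).1 (hperf _ ((QuotientGroup.mk' (Q : Subgroup (H ⧸ N))).comp f) g)
  letI : CommGroup (H ⧸ N) :=
    { (inferInstance : Group (H ⧸ N)) with
      mul_comm := fun a b => by
        have : (⟨a, hall a⟩ : (Q : Subgroup (H ⧸ N))) * ⟨b, hall b⟩ = ⟨b, hall b⟩ * ⟨a, hall a⟩ :=
          e.injective (by rw [map_mul, map_mul, mul_comm])
        exact congrArg Subtype.val this }
  have h1 : f d = 1 := hperf _ f d
  have hd1 : d = 1 := hinj d hd.dS h1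
  have hspan : (P : Subgroup H) ≤ zpowers y := fun x hx => by
    obtain ⟨i, j, rfl⟩ := hd.span x hx
    rw [hd1, one_zpow, one_mul]; exact zpow_mem (mem_zpowers y) j
  have := Subgroup.card_le_of_le hspan
  rw [hd.card, Nat.card_zpowers] at this
  have := orderOf_le_of_pow_eq_one (by norm_num) hd.y4
  omega

variable {X : Type u} [Group X] [Finite X]

/-- A perfect normal subgroup of index two, on which an outer involution fixes a cyclic Sylow
2-subgroup of order four, has one involution in its Sylow 2-subgroups. -/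
theorem rank_one (L : Subgroup X) [L.Normal] (hperf : ⁅L, L⁆ = L) {t r : X}
    (ht : t * t = 1) (htL : t ∉ L) (hout : ∀ p : X, p ∈ L ∨ t * p ∈ L)
    (hr : orderOf r = 4) (hrL : r ∈ L) (htr : t * r = r * t)
    (hC : ∀ Q : Subgroup X, IsPGroup 2 Q → Q ≤ L → (∀ x ∈ Q, t * x = x * t) → Nat.card Q ≤ 4)
    (E : Subgroup X) (hEL : E ≤ L) (hE : ∀ e ∈ E, e * e = 1) : Nat.card E ≤ 2 := by
  classical
  haveI : Fact (Nat.Prime 2) := ⟨Nat.prime_two⟩
  have hti : t⁻¹ = t := inv_eq_of_mul_eq_one_right ht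
  have ht1 : t ≠ 1 := fun e => htL (e ▸ L.one_mem)
  have hR : IsPGroup 2 ↥(zpowers r ⊔ zpowers t) := by
    refine IsPGroup.to_sup_of_normal_left'
      (IsPGroup.of_card (n := 2) (by rw [Nat.card_zpowers, hr]; norm_num))
      (IsPGroup.of_card (n := 1) (by rw [pow_one, Nat.card_zpowers, orderOf_eq_prime (by rw [pow_two, ht]) ht1])) ?_
    intro x hx
    obtain ⟨i, rfl⟩ := mem_zpowers_iff.1 hx
    refine mem_normalizer_iff.2 fun s => ?_
    have hcs : ∀ s ∈ zpowers r, t ^ i * s * (t ^ i)⁻¹ = s := fun s hs => by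
      obtain ⟨j, rfl⟩ := mem_zpowers_iff.1 hs
      rw [(Commute.zpow_zpow (show Commute t r from htr) i j).eq, mul_inv_cancel_right]
    refine ⟨fun hs => by rwa [hcs s hs], fun hs => ?_⟩
    have := hcs _ hs
    have e2 := mul_left_cancel (mul_right_cancel this)
    rw [e2] at hs; exact hs
  obtain ⟨P, hP⟩ := hR.exists_le_sylow
  have htP : t ∈ (P : Subgroup X) := hP (mem_sup_right (mem_zpowers t))
  have hrP : r ∈ (P : Subgroup X) := hP (mem_sup_left (mem_zpowers r))
  let t' : ↥(P : Subgroup X) := ⟨t, htP⟩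
  let r' : ↥(P : Subgroup X) := ⟨r, hrP⟩
  let S : Subgroup ↥(P : Subgroup X) := L.subgroupOf (P : Subgroup X)
  have hS : ∀ x : ↥(P : Subgroup X), x ∈ S ↔ (x : X) ∈ L := fun x => mem_subgroupOf
  have hfix : ∀ x : X, x ∈ (P : Subgroup X) → x ∈ L → t * x = x * t → x ∈ zpowers r := by
    intro x hx hxL hxt
    let C₀ : Subgroup X := ((P : Subgroup X) ⊓ L) ⊓ centralizer ({t} : Set X)
    have hC₀ : Nat.card C₀ ≤ 4 := hC C₀ (P.isPGroup'.to_le (inf_le_left.trans inf_le_left))
      (inf_le_left.trans inf_le_right) fun y hy => (mem_centralizer_singleton_iff.1 (mem_inf.1 hy).2).symm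
    have hle : zpowers r ≤ C₀ := zpowers_le.2
      (mem_inf.2 ⟨mem_inf.2 ⟨hrP, hrL⟩, mem_centralizer_singleton_iff.2 htr.symm⟩)
    rw [Subgroup.eq_of_le_of_card_ge hle (by rw [Nat.card_zpowers, hr]; exact hC₀)]
    exact mem_inf.2 ⟨mem_inf.2 ⟨hx, hxL⟩, mem_centralizer_singleton_iff.2 hxt.symm⟩
  have hH : Hyp S t' r' :=
    { pg := P.isPGroup'
      tt := Subtype.ext ht
      tS := fun h => htL ((hS _).1 h)
      rS := (hS _).2 hrL
      r4 := by rw [← Subgroup.orderOf_coe]; exact hr
      tr := Subtype.ext htr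
      fix := fun x hx e => by
        obtain ⟨i, hi⟩ := mem_zpowers_iff.1 (hfix x x.2 ((hS x).1 hx) (congrArg Subtype.val e))
        exact mem_zpowers_iff.2 ⟨i, Subtype.ext (by simpa using hi)⟩
      out := fun p => (hout p).imp (fun h => (hS p).2 h) fun h => (hS _).2 h
      norm := inferInstance }
  have hzc : ∀ y ∈ (P : Subgroup X), r * r * y = y * (r * r) := fun y hy =>
    (congrArg Subtype.val (hH.z_central ⟨y, hy⟩)).symm
  have hconjL : ∀ {u x : X}, u ∉ L → x⁻¹ * u * x ∉ L := fun {u x} hu hm => hu (by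
    have := ‹L.Normal›.conj_mem _ hm x
    rwa [show x * (x⁻¹ * u * x) * x⁻¹ = u by group] at this)
  suffices hone : ∀ x ∈ (P : Subgroup X), x ∈ L → x * x = 1 → x = 1 ∨ x = r * r by
    have hE2 : IsPGroup 2 E := fun e => ⟨1, Subtype.ext (by simpa [pow_two] using hE e e.2)⟩
    obtain ⟨g, hg⟩ := exists_conj_subset_sylow hE2 P
    calc Nat.card E = Nat.card (E.map (MulAut.conj g).toMonoidHom) :=
          (Subgroup.card_map_of_injective (MulEquiv.injective _)).symm
      _ ≤ Nat.card (zpowers (r * r)) := Subgroup.card_le_of_le fun x hx => by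
          obtain ⟨e, he, rfl⟩ := hx
          rcases hone _ (hg e he) (‹L.Normal›.conj_mem e (hEL he) g)
            (by rw [← conj_sq, hE e he]; group) with h | h
          · show g * e * g⁻¹ ∈ _; rw [h]; exact one_mem _
          · show g * e * g⁻¹ ∈ _; rw [h]; exact mem_zpowers _
      _ ≤ 2 := by
          rw [Nat.card_zpowers]
          exact orderOf_le_of_pow_eq_one two_pos
            (by rw [pow_two]; exact congrArg Subtype.val hH.zz)
  by_contra hne
  push Not at hne
  obtain ⟨x, hxP, hxL, hxx, hx1, hxz⟩ := hne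
  have hkill : ∀ (A : Type u) [CommGroup A] (f : X →* A) {y : X}, y ∈ L → f y = 1 :=
    fun A _ f {y} hy => hom_eq_one_of_perfect hperf f hy
  rcases dichotomy hH (x := ⟨x, hxP⟩) ((hS _).2 hxL) (Subtype.ext hxx)
    (fun e => hx1 (congrArg Subtype.val e)) (fun e => hxz (congrArg Subtype.val e)) with ⟨v, hfd⟩ | ⟨a, b, k, hd⟩
  · -- the four-group case, inside `L`
    let SX : Subgroup X := (P : Subgroup X) ⊓ L
    have hSL : SX ≤ L := inf_le_right
    obtain ⟨T, hT⟩ := ((P.isPGroup'.to_le inf_le_left).comap_of_injective L.subtype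
      L.subtype_injective : IsPGroup 2 (SX.subgroupOf L)).exists_le_sylow
    have hTe : (T : Subgroup L) = SX.subgroupOf L := by
      refine (Subgroup.eq_of_le_of_card_ge hT ?_).symm
      obtain ⟨g, hg⟩ := exists_conj_subset_sylow (T.isPGroup'.map L.subtype) P
      show Nat.card ↥(T : Subgroup L) ≤ Nat.card ↥(SX.subgroupOf L)
      rw [Nat.card_congr (Subgroup.subgroupOfEquivOfLe hSL).toEquiv,
        ← Subgroup.card_map_of_injective L.subtype_injective,
        ← Subgroup.card_map_of_injective (f := (MulAut.conj g).toMonoidHom) (MulEquiv.injective _)]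
      refine Subgroup.card_le_of_le ?_
      rintro _ ⟨u, hu, rfl⟩
      refine mem_inf.2 ⟨hg u hu, ?_⟩
      obtain ⟨w, -, rfl⟩ := hu
      exact ‹L.Normal›.conj_mem _ w.2 g
    have hperfL : ∀ (A : Type u) [CommGroup A] (f : L →* A) (y : L), f y = 1 := by
      intro A _ f y
      have : (⊤ : Subgroup L) ≤ f.ker := by
        refine le_trans ?_ (Abelianization.commutator_subset_ker f)
        refine (Subgroup.map_le_map_iff_of_injective L.subtype_injective).1 ?_
        rw [_root_.commutator_def, Subgroup.map_commutator]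
        simp only [← MonoidHom.range_eq_map, Subgroup.range_subtype, hperf, le_refl]
      exact this (mem_top y)
    have hmem : ∀ {w : ↥(P : Subgroup X)}, w ∈ S → ((w : X) ∈ L) := fun {w} hw => (hS w).1 hw
    let ι : ↥S →* ↥L := { toFun := fun w => ⟨(w : X), hmem w.2⟩, map_one' := rfl, map_mul' := fun _ _ => rfl }
    have hι : Function.Injective ι := fun a b e => Subtype.ext (Subtype.ext (congrArg (Subtype.val : ↥L → X) e))
    have hιT : ∀ w : ↥S, ι w ∈ (T : Subgroup L) := fun w => by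
      rw [hTe]; exact mem_subgroupOf.2 (mem_inf.2 ⟨w.1.2, hmem w.2⟩)
    have hTι : ∀ y ∈ (T : Subgroup L), ∃ w : ↥S, ι w = y := fun y hy => by
      rw [hTe] at hy
      exact ⟨⟨⟨y, (mem_inf.1 (mem_subgroupOf.1 hy)).1⟩, (hS _).2 y.2⟩, rfl⟩
    let r₁ : ↥S := ⟨r', hH.rS⟩
    have hzz' : ι (r₁ * r₁) * ι (r₁ * r₁) = 1 := by
      rw [← map_mul, ← map_one ι]; exact congrArg ι (Subtype.ext hH.zz)
    rcases four_cases hH hfd with ⟨M, hM⟩ | ⟨M, A₀, hM⟩ | ⟨d, y, hM⟩
    · let v₁ : ↥S := ⟨v, hfd.vS⟩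
      refine central_false hperfL T (z := ι (r₁ * r₁)) (v := ι v₁) (M := (M.subgroupOf S).map ι) hzz'
        ⟨ι r₁, hιT _, (map_mul ι _ _).symm⟩ ?_
      have hMm : ∀ w : ↥S, ι w ∈ (M.subgroupOf S).map ι ↔ (w : ↥(P : Subgroup X)) ∈ M := fun w =>
        (Subgroup.mem_map_iff_mem hι).trans mem_subgroupOf
      refine ⟨?_, hιT _, ?_, ?_, ?_, (hMm _).2 hM.zM, fun h => hM.vM ((hMm _).1 h), ?_, ?_, ?_, ?_⟩
      · rintro _ ⟨w, -, rfl⟩; exact hιT w
      · rw [← map_mul, ← map_one ι]; exact congrArg ι (Subtype.ext hM.vv)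
      · rw [← map_one ι]; exact fun e => hM.v1 (congrArg Subtype.val (hι e))
      · intro p hp q hq
        obtain ⟨p, rfl⟩ := hTι p hp; obtain ⟨q, rfl⟩ := hTι q hq
        rw [← map_inv, ← map_inv, ← map_mul, ← map_mul, ← map_mul, hMm]
        exact hM.comm p p.2 q q.2
      · intro p hp hpp
        obtain ⟨p, rfl⟩ := hTι p hp
        rw [← map_mul, hMm] at hpp
        rw [← map_mul, hMm, hMm]
        exact hM.uniq p p.2 hpp
      · intro p hp
        obtain ⟨p, rfl⟩ := hTι p hp
        rw [← map_mul, ← map_mul]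
        exact congrArg ι (Subtype.ext (hM.cent p p.2))
      · intro p hp hpp hc
        obtain ⟨p, rfl⟩ := hTι p hp
        rw [← map_mul, ← map_one ι] at hpp
        rcases hM.invol p p.2 (congrArg Subtype.val (hι hpp)) (fun q hq => congrArg Subtype.val
          (hι (by rw [map_mul, map_mul]; exact hc _ (hιT ⟨q, hq⟩)) : p * ⟨q, hq⟩ = ⟨q, hq⟩ * p)) with e | e | e | e
        · left; rw [← map_one ι]; exact congrArg ι (Subtype.ext e)
        · right; left; exact congrArg ι (Subtype.ext e)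
        · right; right; left; exact congrArg ι (Subtype.ext e)
        · right; right; right; rw [← map_mul]; exact congrArg ι (Subtype.ext e)
      · rcases hM.sep with hs | ⟨p, hp, q, hq, hpq⟩
        · left; intro p hp
          obtain ⟨p, rfl⟩ := hTι p hp
          rw [← map_mul, hMm]
          exact hs p p.2
        · right
          refine ⟨ι ⟨p, hp⟩, hιT _, ι ⟨q, hq⟩, hιT _, ?_⟩
          rw [← map_inv, ← map_inv, ← map_mul, ← map_mul, ← map_mul]
          exact congrArg ι (Subtype.ext hpq)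
    · let v₁ : ↥S := ⟨v, hfd.vS⟩
      refine moved_false hperfL T (z := ι (r₁ * r₁)) (v := ι v₁) (M := (M.subgroupOf S).map ι)
        (A₀ := (A₀.subgroupOf S).map ι) hzz'
        (by rw [← map_one ι]; exact fun e => hH.r_pow.1 (congrArg Subtype.val (hι e))) ?_ ?_
      · intro p hp
        obtain ⟨p, rfl⟩ := hTι p hp
        rw [← map_mul, ← map_mul]
        exact congrArg ι (Subtype.ext (hH.z_central p).symm)
      have hMm : ∀ w : ↥S, ι w ∈ (M.subgroupOf S).map ι ↔ (w : ↥(P : Subgroup X)) ∈ M := fun w =>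
        (Subgroup.mem_map_iff_mem hι).trans mem_subgroupOf
      have hAm : ∀ w : ↥S, ι w ∈ (A₀.subgroupOf S).map ι ↔ (w : ↥(P : Subgroup X)) ∈ A₀ := fun w =>
        (Subgroup.mem_map_iff_mem hι).trans mem_subgroupOf
      refine ⟨?_, hιT _, ?_, ?_, ?_, (hMm _).2 hM.zM, fun h => hM.vM ((hMm _).1 h), ?_, ?_, (hAm _).2 hM.vA,
        ?_, ?_, ?_, ?_, ?_, ?_, ?_, ?_⟩
      · rintro _ ⟨w, -, rfl⟩; exact hιT w
      · rw [← map_mul, ← map_one ι]; exact congrArg ι (Subtype.ext hM.vv)
      · rw [← map_one ι]; exact fun e => hM.v1 (congrArg Subtype.val (hι e))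
      · intro p hp q hq
        obtain ⟨p, rfl⟩ := hTι p hp; obtain ⟨q, rfl⟩ := hTι q hq
        rw [← map_inv, ← map_inv, ← map_mul, ← map_mul, ← map_mul, hMm]
        exact hM.comm p p.2 q q.2
      · intro p hp hpp
        obtain ⟨p, rfl⟩ := hTι p hp
        rw [← map_mul, hMm] at hpp
        rw [← map_mul, hMm, hMm]
        exact hM.uniq p p.2 hpp
      · rintro _ ⟨w, -, rfl⟩; exact hιT w
      · obtain ⟨u, hu, huu⟩ := hM.rA
        refine ⟨ι ⟨u, hM.Ale hu⟩, (hAm _).2 hu, ?_⟩
        rw [← map_mul]; exact congrArg ι (Subtype.ext huu)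
      · rintro _ ⟨w, hw, rfl⟩
        rw [← map_mul, ← map_mul]
        exact congrArg ι (Subtype.ext (hM.cA w (mem_subgroupOf.1 hw)))
      · intro p hp hpv
        obtain ⟨p, rfl⟩ := hTι p hp
        rw [← map_mul, ← map_mul] at hpv
        exact (hAm p).2 (hM.centA p p.2 (congrArg Subtype.val (hι hpv)))
      · rintro _ ⟨w, hw, rfl⟩ e
        rw [← map_mul, ← map_mul, ← map_one ι] at e
        rw [← map_mul, ← map_one ι]
        exact (hM.sqA w (mem_subgroupOf.1 hw) (congrArg Subtype.val (hι e))).imp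
          (fun h => congrArg ι (Subtype.ext h)) (fun h => congrArg ι (Subtype.ext h))
      · rw [hTe, Nat.card_congr (Subgroup.subgroupOfEquivOfLe hSL).toEquiv,
          Subgroup.card_map_of_injective hι, Nat.card_congr (Subgroup.subgroupOfEquivOfLe hM.Ale).toEquiv,
          ← hM.index]
        show Nat.card ↥((P : Subgroup X) ⊓ L) = Nat.card ↥(L.subgroupOf (P : Subgroup X))
        rw [← inf_subgroupOf_right L, Nat.card_congr (Subgroup.subgroupOfEquivOfLe inf_le_right).toEquiv, inf_comm]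
      · obtain ⟨y, hy, hyv⟩ := hM.moved
        refine ⟨ι ⟨y, hy⟩, hιT _, ?_⟩
        rw [← map_inv, ← map_mul, ← map_mul, ← map_mul]
        exact congrArg ι (Subtype.ext hyv)
      · intro p hp hpp hc
        obtain ⟨p, rfl⟩ := hTι p hp
        rw [← map_mul, ← map_one ι] at hpp
        rcases hM.invol p p.2 (congrArg Subtype.val (hι hpp)) (fun q hq => congrArg Subtype.val
          (hι (by rw [map_mul, map_mul]; exact hc _ (hιT ⟨q, hq⟩)) : p * ⟨q, hq⟩ = ⟨q, hq⟩ * p)) with e | e
        · left; rw [← map_one ι]; exact congrArg ι (Subtype.ext e)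
        · right; exact congrArg ι (Subtype.ext e)
      · intro p hp hpp hpM
        obtain ⟨p, rfl⟩ := hTι p hp
        rw [← map_mul, ← map_one ι] at hpp
        rw [← map_mul]
        exact (hM.outM p p.2 (congrArg Subtype.val (hι hpp)) fun h => hpM ((hMm _).2 h)).imp
          (fun h => congrArg ι (Subtype.ext h)) (fun h => congrArg ι (Subtype.ext h))
    · refine homocyclic_false hperfL T (d := ι ⟨d, hM.dS⟩) (y := ι ⟨y, hM.yS⟩) ⟨hιT _, hιT _, ?_, ?_, ?_, ?_, ?_⟩
      · rw [← map_mul, ← map_mul]; exact congrArg ι (Subtype.ext hM.comm)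
      · rw [← map_pow, ← map_one ι]; exact congrArg ι (Subtype.ext hM.d4)
      · rw [← map_pow, ← map_one ι]; exact congrArg ι (Subtype.ext hM.y4)
      · intro p hp
        obtain ⟨p, rfl⟩ := hTι p hp
        obtain ⟨i, j, hij⟩ := hM.span p p.2
        refine ⟨i, j, ?_⟩
        rw [← map_zpow, ← map_zpow, ← map_mul]
        exact congrArg ι (Subtype.ext (by simpa using hij))
      · rw [hTe, Nat.card_congr (Subgroup.subgroupOfEquivOfLe hSL).toEquiv, ← hM.card]
        show Nat.card ↥((P : Subgroup X) ⊓ L) = Nat.card ↥(L.subgroupOf (P : Subgroup X))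
        rw [← inf_subgroupOf_right L, Nat.card_congr (Subgroup.subgroupOfEquivOfLe inf_le_right).toEquiv, inf_comm]
  · -- the maximal class cases, inside `X`
    have hcoset : ∀ (M : Subgroup ↥(P : Subgroup X)) (c : ↥(P : Subgroup X)), c ∉ M → (∀ p, p ∈ M ∨ c * p ∈ M) →
        (∀ p, p ∈ M ∨ p * c⁻¹ ∈ M) ∧ ∀ p q, p * q * p⁻¹ * q⁻¹ ∈ M ∧ p * p ∈ M := by
      intro M c hc hcov
      have h1 : ∀ p, p ∈ M ∨ p * c⁻¹ ∈ M := fun p => by
        rcases hcov p⁻¹ with e | e
        · exact Or.inl ((Subgroup.inv_mem_iff M).1 e)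
        · exact Or.inr (by simpa using M.inv_mem e)
      have hi : M.index = 2 := by
        rw [Subgroup.index_eq_two_iff]
        refine ⟨c⁻¹, fun p => ?_⟩
        rw [xor_iff_or_and_not_and]
        refine ⟨(h1 p).symm, fun ⟨e1, e2⟩ => hc ((Subgroup.inv_mem_iff M).1 ((M.mul_mem_cancel_left e2).1 e1))⟩
      have hsq : ∀ p, p * p ∈ M := fun p => Subgroup.mul_self_mem_of_index_two hi p
      refine ⟨h1, fun p q => ⟨?_, hsq p⟩⟩
      rw [show p * q * p⁻¹ * q⁻¹ = (p * q) * (p * q) * (q⁻¹ * (p⁻¹ * p⁻¹) * q⁻¹⁻¹) * (q⁻¹ * q⁻¹) by group]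
      haveI := Subgroup.normal_of_index_eq_two hi
      exact mul_mem (mul_mem (hsq _) (‹M.Normal›.conj_mem _ (hsq p⁻¹) q⁻¹)) (hsq _)
    have hMX : ∀ (M : Subgroup ↥(P : Subgroup X)) (w : ↥(P : Subgroup X)),
        (w : X) ∈ M.map (P : Subgroup X).subtype ↔ w ∈ M := fun M w =>
      Subgroup.mem_map_iff_mem (P : Subgroup X).subtype_injective
    rcases Nat.lt_or_ge k 3 with hk | hk
    · -- order eight
      obtain rfl : k = 2 := by have := hd.two_le; omega
      obtain ⟨M, w, hbM, hcov, hinvM, hww, hwb, hsq⟩ := max_two hH hd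
      obtain ⟨h1, h2⟩ := hcoset M b hbM hcov
      have hbX : (b : X) ∈ L := (hS b).1 hd.bS
      have hbb : (b : X) * b = 1 := congrArg Subtype.val hd.bb
      have heven := even_outside (P : Subgroup X) (M.map (P : Subgroup X).subtype) (Subgroup.map_subtype_le M)
        (fun p hp q hq => (hMX M (⟨p, hp⟩ * ⟨q, hq⟩ * ⟨p, hp⟩⁻¹ * ⟨q, hq⟩⁻¹)).2 (h2 _ _).1)
        b.2 (by rw [hbb]; exact one_mem _) (fun h => hbM ((hMX M b).1 h))
        (fun p hp _ => (h1 ⟨p, hp⟩).imp (fun h => (hMX M ⟨p, hp⟩).2 h) fun h => by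
          have := (hMX M (⟨p, hp⟩ * b⁻¹)).2 h
          rwa [Subgroup.coe_mul, Subgroup.coe_inv, inv_eq_of_mul_eq_one_right hbb] at this)
        hbb (one_mul (1 : X))
        (fun A _ f => by rw [hkill A f hbX, map_one])
        (fun x _ => by rw [mul_one, inv_mul_cancel]; exact one_mem _)
      -- so `b` is conjugate to the central involution
      obtain ⟨g, hg⟩ : ∃ g : X, g⁻¹ * b * g = r * r := by
        by_contra hnc
        push Not at hnc
        have hiff : ∀ q : X ⧸ (P : Subgroup X), (∃ x : X, QuotientGroup.mk x = q ∧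
            x⁻¹ * (b : X) * x ∈ (P : Subgroup X) ∧ x⁻¹ * (b : X) * x ∉ M.map (P : Subgroup X).subtype) ↔
            (b : X) • q = q := by
          intro q
          constructor
          · rintro ⟨x, rfl, h3, -⟩
            exact Cfsg.Agent.Invol.smul_mk_eq_iff.2 h3
          · induction q using QuotientGroup.induction_on with
            | H x =>
              intro h3
              have h4 := Cfsg.Agent.Invol.smul_mk_eq_iff.1 h3
              refine ⟨x, rfl, h4, fun hm => ?_⟩
              have hxb : x⁻¹ * (b : X) * x * (x⁻¹ * (b : X) * x) = 1 := by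
                rw [show x⁻¹ * (b : X) * x * (x⁻¹ * (b : X) * x) = x⁻¹ * ((b : X) * b) * x by group, hbb]; group
              have hL : x⁻¹ * (b : X) * x ∈ L := by
                have := ‹L.Normal›.conj_mem _ hbX x⁻¹; rwa [inv_inv] at this
              rcases hinvM ⟨_, h4⟩ ((hS _).2 hL) ((hMX M ⟨_, h4⟩).1 hm) (Subtype.ext hxb) with e | e
              · have e' : x⁻¹ * (b : X) * x = 1 := congrArg Subtype.val e
                rw [mul_assoc, inv_mul_eq_one, right_eq_mul] at e'
                exact hd.b_nmem (by rw [show b = 1 from Subtype.ext e']; exact one_mem _)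
              · exact hnc x (congrArg Subtype.val e)
        rw [Nat.card_congr (Equiv.subtypeEquivRight hiff)] at heven
        refine Nat.not_even_iff_odd.2 (odd_card_fixed P (orderOf_eq_prime (by rw [pow_two, hbb]) ?_)) heven
        exact fun e => hd.b_nmem (by rw [show b = 1 from Subtype.ext e]; exact one_mem _)
      -- a square root of `r²` commuting with `b`
      let K : Subgroup X := centralizer ({(b : X)} : Set X)
      let P' : Subgroup X := (P : Subgroup X).map (MulAut.conj g).toMonoidHom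
      have hP'K : ((g • P : Sylow 2 X) : Subgroup X) ≤ K := by
        intro y hy
        rw [Sylow.smul_def] at hy
        obtain ⟨p, hp, rfl⟩ := hy
        refine mem_centralizer_singleton_iff.2 ?_
        change g * p * g⁻¹ * b = b * (g * p * g⁻¹)
        have hb : (b : X) = g * (r * r) * g⁻¹ := by rw [← hg]; group
        rw [hb, show g * p * g⁻¹ * (g * (r * r) * g⁻¹) = g * (p * (r * r)) * g⁻¹ by group, ← hzc p hp]
        group
      have hwK : (w : X) ∈ K := mem_centralizer_singleton_iff.2 (congrArg Subtype.val hwb)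
      have hQ : IsPGroup 2 ((((P : Subgroup X) ⊓ K)).subgroupOf K) :=
        (P.isPGroup'.to_le inf_le_left).comap_of_injective K.subtype K.subtype_injective
      obtain ⟨c, hc⟩ := exists_conj_subset_sylow hQ ((g • P : Sylow 2 X).subtype hP'K)
      have hm : ((c * ⟨w, hwK⟩ * c⁻¹ : K) : X) ∈ ((g • P : Sylow 2 X) : Subgroup X) :=
        mem_subgroupOf.1 (hc ⟨w, hwK⟩ (mem_subgroupOf.2 (mem_inf.2 ⟨w.2, hwK⟩)))
      rw [Sylow.smul_def] at hm
      obtain ⟨p, hp, hpe⟩ := hm
      have hpe' : g * p * g⁻¹ = (c : X) * w * (c : X)⁻¹ := hpe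
      set g' := (c : X)⁻¹ * g with hg'
      have hbg : g'⁻¹ * (b : X) * g' = r * r := by
        have hcb : (c : X) * b = b * c := mem_centralizer_singleton_iff.1 c.2
        rw [hg', show ((c : X)⁻¹ * g)⁻¹ * (b : X) * ((c : X)⁻¹ * g) = g⁻¹ * ((c : X) * b * (c : X)⁻¹) * g by group,
          hcb, mul_inv_cancel_right, hg]
      have hpw : p = g'⁻¹ * w * g' := by
        rw [hg', show ((c : X)⁻¹ * g)⁻¹ * (w : X) * ((c : X)⁻¹ * g) = g⁻¹ * ((c : X) * w * (c : X)⁻¹) * g by group,
          ← hpe']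
        group
      have hww' : (w : X) * w = r * r := congrArg Subtype.val hww
      have hp2 : p * p = g'⁻¹ * (r * r) * g' := by rw [hpw, ← hww']; group
      have hzz : r * r * (r * r) = 1 := congrArg Subtype.val hH.zz
      have hpz : p * p * (p * p) = 1 := by
        rw [hp2, show g'⁻¹ * (r * r) * g' * (g'⁻¹ * (r * r) * g') = g'⁻¹ * (r * r * (r * r)) * g' by group, hzz]
        group
      have hrne : r * r ≠ 1 := fun e => hH.r_pow.1 (Subtype.ext e)
      have hpp : p * p = r * r := by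
        obtain ⟨i, hi⟩ := mem_zpowers_iff.1 (hsq ⟨p, hp⟩)
        have hi' : r ^ i = p * p := by simpa using congrArg Subtype.val hi
        refine (eq_of_invol_zpowers (P.isPGroup') (x := (⟨p, hp⟩ : ↥(P : Subgroup X)) * ⟨p, hp⟩)
          (y := r' * r') (hsq ⟨p, hp⟩) (mul_mem (mem_zpowers _) (mem_zpowers _)) (Subtype.ext hpz) hH.zz
          (fun e => ?_) hH.r_pow.1) |> congrArg Subtype.val
        have e' : p * p = 1 := congrArg Subtype.val e
        rw [hp2, mul_assoc, inv_mul_eq_one, right_eq_mul] at e'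
        exact hrne e'
      have hbz : (b : X) = r * r := by
        have e1 : g'⁻¹ * (b : X) * g' = g'⁻¹ * (r * r) * g' := by rw [hbg, ← hp2, hpp]
        exact mul_left_cancel (mul_right_cancel e1)
      refine hd.b_nmem ?_
      have hbr : b = r' * r' := Subtype.ext hbz
      rw [hbr]
      refine (hd.cover r' hH.rS).elim (fun e => mul_mem e e) fun e => ?_
      exact absurd hd.bS fun _ => by
        haveI := Subgroup.Normal.mk (H := zpowers a) (fun y hy g => by
          obtain ⟨i, rfl⟩ := mem_zpowers_iff.1 hy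
          rw [← conj_zpow]; exact zpow_mem (hd.anorm g) i)
        have hmem := hH.z_mem_normal (B := zpowers a) (zpowers_le.2 hd.aS) (fun e' => by
          rw [zpowers_eq_bot] at e'
          have := hd.ord; rw [e', orderOf_one] at this; norm_num at this)
        exact hd.b_nmem (hbr ▸ hmem)
    · -- order at least sixteen
      obtain ⟨M, c, w, htM, hcM, hcov, hconj, hwS, hww, Q, hQc, hQw⟩ := max_ge_three hH hd hk
      obtain ⟨h1, h2⟩ := hcoset M c hcM hcov
      have hwX : (w : X) ∉ L := fun h => hwS ((hS w).2 h)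
      have hwwX : (w : X) * w = 1 := congrArg Subtype.val hww
      have htwL : t * (w : X) ∈ L := (hout w).resolve_left hwX
      have hoff : ∀ {u : X} (x : X), u ∉ L → u * u = 1 → ∀ h : x⁻¹ * u * x ∈ (P : Subgroup X),
          (⟨_, h⟩ : ↥(P : Subgroup X)) ∉ M → ∃ g ∈ (P : Subgroup X), g * t * g⁻¹ = x⁻¹ * u * x := by
        intro u x hu huu h hm
        obtain ⟨g, hg⟩ := hconj ⟨_, h⟩ (fun h' => hconjL hu ((hS _).1 h')) hm (Subtype.ext (by
          show x⁻¹ * u * x * (x⁻¹ * u * x) = 1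
          rw [show x⁻¹ * u * x * (x⁻¹ * u * x) = x⁻¹ * (u * u) * x by group, huu]; group))
        exact ⟨g, g.2, congrArg Subtype.val hg⟩
      -- the Sylow subgroups of the centraliser of `t`
      have hmax : ∀ R : Subgroup X, IsPGroup 2 R → R ≤ centralizer ({t} : Set X) → Nat.card R ≤ 8 := by
        intro R hR hRC
        have hi : L.index ≤ 2 := by
          rw [show L.index = 2 from Subgroup.index_eq_two_iff'.2 ⟨t, fun p => by
            rw [xor_iff_or_and_not_and]
            exact ⟨(hout p).symm, fun ⟨e1, e2⟩ => htL ((L.mul_mem_cancel_right e2).1 e1)⟩⟩]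
        have h3 : L.relIndex R ≤ 2 := le_trans
          (Nat.le_of_dvd (Nat.pos_of_ne_zero Subgroup.index_ne_zero_of_finite) (Subgroup.relIndex_dvd_index_of_normal L R)) hi
        have h4 := hC (R ⊓ L) (hR.to_le inf_le_left) inf_le_right fun y hy =>
          (mem_centralizer_singleton_iff.1 (hRC (mem_inf.1 hy).1)).symm
        have h5 := Subgroup.card_mul_index (L.subgroupOf R)
        rw [← h5]
        refine le_trans (Nat.mul_le_mul ?_ h3) (by norm_num : 4 * 2 ≤ 8)
        rw [← inf_subgroupOf_right L R, Nat.card_congr (Subgroup.subgroupOfEquivOfLe inf_le_right).toEquiv,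
          inf_comm]
        exact h4
      have hPC : 8 ≤ Nat.card ↥((P : Subgroup X) ⊓ centralizer ({t} : Set X)) := by
        have hlt : zpowers r < (P : Subgroup X) ⊓ centralizer ({t} : Set X) := lt_of_le_of_ne
          (zpowers_le.2 (mem_inf.2 ⟨hrP, mem_centralizer_singleton_iff.2 htr.symm⟩)) fun e => htL (by
            have : t ∈ zpowers r := by rw [e]; exact mem_inf.2 ⟨htP, mem_centralizer_singleton_iff.2 rfl⟩
            exact (zpowers_le.2 hrL) this)
        have := two_mul_card_le hlt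
        rwa [Nat.card_zpowers, hr] at this
      have heven := even_outside (P : Subgroup X) (M.map (P : Subgroup X).subtype) (Subgroup.map_subtype_le M)
        (fun p hp q hq => (hMX M (⟨p, hp⟩ * ⟨q, hq⟩ * ⟨p, hp⟩⁻¹ * ⟨q, hq⟩⁻¹)).2 (h2 _ _).1)
        (v := ((c⁻¹ : ↥(P : Subgroup X)) : X)) (c⁻¹).2 ((hMX M (c⁻¹ * c⁻¹)).2 (h2 c⁻¹ c⁻¹).2)
        (fun h => hcM ((Subgroup.inv_mem_iff M).1 ((hMX M c⁻¹).1 h)))
        (fun p hp _ => (h1 ⟨p, hp⟩).imp (fun h => (hMX M ⟨p, hp⟩).2 h) fun h => (hMX M (⟨p, hp⟩ * c⁻¹)).2 h)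
        (a := t) (w := (w : X)) ht hwwX
        (fun A _ f => by
          have := hkill A f htwL
          rw [map_mul, mul_eq_one_iff_eq_inv, ← map_inv, inv_eq_of_mul_eq_one_right hwwX] at this
          exact this)
        (fun x h => by
          by_contra hm
          obtain ⟨g, hg, hge⟩ := hoff x hwX hwwX h (fun h' => hm ((hMX M ⟨_, h⟩).2 h'))
          let σ : X →* X := ((MulAut.conj (g⁻¹ * x⁻¹)).toMonoidHom)
          have hcomp : IsPGroup 2 ↥((Q.map (P : Subgroup X).subtype).map σ) :=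
            ((P.isPGroup'.to_le (Subgroup.map_subtype_le Q))).map σ
          have hle : (Q.map (P : Subgroup X).subtype).map σ ≤ centralizer ({t} : Set X) := by
            rintro _ ⟨_, ⟨q, hq, rfl⟩, rfl⟩
            have hqw : (q : X) * w = w * q := congrArg Subtype.val (hQw q hq)
            refine mem_centralizer_singleton_iff.2 ?_
            have ht' : t = g⁻¹ * x⁻¹ * w * (g⁻¹ * x⁻¹)⁻¹ := by
              rw [show g⁻¹ * x⁻¹ * (w : X) * (g⁻¹ * x⁻¹)⁻¹ = g⁻¹ * (x⁻¹ * w * x) * g by group, ← hge]; group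
            show g⁻¹ * x⁻¹ * (q : X) * (g⁻¹ * x⁻¹)⁻¹ * t = t * (g⁻¹ * x⁻¹ * (q : X) * (g⁻¹ * x⁻¹)⁻¹)
            rw [ht', ← show g⁻¹ * x⁻¹ * ((q : X) * w) * (g⁻¹ * x⁻¹)⁻¹ = g⁻¹ * x⁻¹ * (q : X) * (g⁻¹ * x⁻¹)⁻¹ *
              (g⁻¹ * x⁻¹ * (w : X) * (g⁻¹ * x⁻¹)⁻¹) by group, hqw]
            group
          have := hmax _ hcomp hle
          rw [Subgroup.card_map_of_injective (MulEquiv.injective _),
            Subgroup.card_map_of_injective (P : Subgroup X).subtype_injective] at this
          omega)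
      have hodd := odd_orbit (P : Subgroup X) (centralizer ({t} : Set X)) P.isPGroup'
        fun R hR hRC => le_trans (hmax R hR hRC) hPC
      have hiff : ∀ q : X ⧸ (P : Subgroup X), (∃ x : X, QuotientGroup.mk x = q ∧
          x⁻¹ * t * x ∈ (P : Subgroup X) ∧ x⁻¹ * t * x ∉ M.map (P : Subgroup X).subtype) ↔
          ∃ g ∈ centralizer ({t} : Set X), QuotientGroup.mk g = q := by
        intro q
        constructor
        · rintro ⟨x, rfl, h, hm⟩
          obtain ⟨g, hg, hge⟩ := hoff x htL ht h (fun h' => hm ((hMX M ⟨_, h⟩).2 h'))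
          refine ⟨x * g, mem_centralizer_singleton_iff.2 ?_,
            QuotientGroup.eq.2 (by rw [mul_inv_rev, inv_mul_cancel_right]; exact inv_mem hg)⟩
          calc x * g * t = x * (g * t * g⁻¹) * g := by group
            _ = t * (x * g) := by rw [hge]; group
        · rintro ⟨g, hg, rfl⟩
          have hgt : g * t = t * g := mem_centralizer_singleton_iff.1 hg
          have e : g⁻¹ * t * g = t := by rw [mul_assoc, ← hgt, inv_mul_cancel_left]
          exact ⟨g, rfl, by rw [e]; exact htP, by rw [e]; exact fun h => htM ((hMX M t').1 h)⟩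
      rw [Nat.card_congr (Equiv.subtypeEquivRight hiff)] at heven
      exact (Nat.not_even_iff_odd.2 hodd) heven

end Cfsg.Agent.Invol.CycFour
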