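import Cfsg.Agent.Lib.Invol.CycFourFixed.Cyclic

/-!
# A 2-group with an involution whose fixed points form a cyclic group of order four
-/

set_option autoImplicit false

namespace Cfsg.Agent.Invol.CycFour

open Subgroup

variable {W : Type*} [Group W]

/-- The four-group `{1, z, v, v z}`. -/
def fourGroup (z v : W) (hz : z * z = 1) (hv : v * v = 1) (h : v * z = z * v) : Subgroup W where
  carrier := {x | x = 1 ∨ x = z ∨ x = v ∨ x = v * z}
  one_mem' := Or.inl rfl
  mul_mem' := by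
    intro a b ha hb
    simp only [Set.mem_setOf_eq] at ha hb ⊢
    have e1 : ∀ y : W, z * (z * y) = y := fun y => by rw [← mul_assoc, hz, one_mul]
    have e2 : ∀ y : W, v * (v * y) = y := fun y => by rw [← mul_assoc, hv, one_mul]
    have e3 : ∀ y : W, z * (v * y) = v * (z * y) := fun y => by rw [← mul_assoc, ← h, mul_assoc]
    rcases ha with rfl | rfl | rfl | rfl <;> rcases hb with rfl | rfl | rfl | rfl <;>
      simp [mul_assoc, hz, hv, e1, e2, e3, ← h]
  inv_mem' := by
    intro a ha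
    simp only [Set.mem_setOf_eq] at ha ⊢
    rcases ha with rfl | rfl | rfl | rfl <;>
      simp [inv_eq_of_mul_eq_one_right hz, inv_eq_of_mul_eq_one_right hv, ← h]

/-- The setting: an involution `t` outside `S`, with fixed points `⟨r⟩` of order four on `S`. -/
structure Hyp (S : Subgroup W) (t r : W) : Prop where
  pg : IsPGroup 2 W
  tt : t * t = 1
  tS : t ∉ S
  rS : r ∈ S
  r4 : orderOf r = 4
  tr : t * r = r * t
  fix : ∀ x ∈ S, t * x = x * t → x ∈ zpowers r
  out : ∀ p : W, p ∈ S ∨ t * p ∈ S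
  norm : S.Normal

variable {S : Subgroup W} {t r : W}

namespace Hyp

theorem ti (h : Hyp S t r) : t⁻¹ = t := inv_eq_of_mul_eq_one_right h.tt

theorem conj_mem (h : Hyp S t r) {x : W} (hx : x ∈ S) : t * x * t ∈ S := by
  have := h.norm.conj_mem x hx t; rwa [h.ti] at this

theorem r_cases (h : Hyp S t r) {x : W} (hx : x ∈ zpowers r) :
    x = 1 ∨ x = r ∨ x = r * r ∨ x = r * r * r := by
  obtain ⟨i, rfl⟩ := mem_zpowers_iff.1 hx
  have hi : r ^ i = r ^ (i % 4) := by
    rw [zpow_eq_iff (k := 2) (by rw [h.r4]; norm_num)]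
    exact ⟨-(i / 4), by rw [Int.emod_def]; ring⟩
  rcases (by omega : i % 4 = 0 ∨ i % 4 = 1 ∨ i % 4 = 2 ∨ i % 4 = 3) with e | e | e | e <;>
    rw [hi, e]
  · left; rw [zpow_zero]
  · right; left; rw [zpow_one]
  · right; right; left; rw [show (2 : ℤ) = 1 + 1 by norm_num, zpow_add, zpow_one]
  · right; right; right; rw [show (3 : ℤ) = 1 + 1 + 1 by norm_num, zpow_add, zpow_add, zpow_one]

theorem r_pow (h : Hyp S t r) : r * r ≠ 1 ∧ r * r * r * r = 1 ∧ r ≠ 1 := by
  refine ⟨fun e => ?_, ?_, fun e => ?_⟩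
  · have := orderOf_dvd_of_pow_eq_one (show r ^ 2 = 1 by rw [pow_two, e])
    rw [h.r4] at this; omega
  · have := pow_orderOf_eq_one r; rw [h.r4] at this
    simpa [pow_succ] using this
  · have := h.r4; rw [e, orderOf_one] at this; omega

theorem zz (h : Hyp S t r) : r * r * (r * r) = 1 := by rw [← mul_assoc]; exact h.r_pow.2.1

theorem fixed_invol (h : Hyp S t r) {x : W} (hx : x ∈ S) (hxx : x * x = 1) (hc : t * x = x * t) :
    x = 1 ∨ x = r * r := by
  rcases h.r_cases (h.fix x hx hc) with e | e | e | e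
  · exact Or.inl e
  · exact absurd (e ▸ hxx) h.r_pow.1
  · exact Or.inr e
  · refine absurd ?_ h.r_pow.1
    rw [e, show r * r * r * (r * r * r) = r * r * r * r * (r * r) by group, h.r_pow.2.1, one_mul] at hxx
    exact hxx

variable [Finite W]

theorem z_mem_normal (h : Hyp S t r) {B : Subgroup W} [B.Normal] (hBS : B ≤ S) (hB : B ≠ ⊥) :
    r * r ∈ B := by
  obtain ⟨x, hx, hxx, hx1, hc⟩ := exists_fixed_involution h.pg hB
  rcases h.fixed_invol (hBS hx) hxx (hc t) with e | e
  · exact absurd e hx1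
  · exact e ▸ hx

theorem z_central (h : Hyp S t r) (g : W) : g * (r * r) = (r * r) * g := by
  haveI := h.norm
  have hS : S ≠ ⊥ := fun e => h.r_pow.2.2 (by have := h.rS; rw [e] at this; exact mem_bot.1 this)
  obtain ⟨x, hx, hxx, hx1, hc⟩ := exists_fixed_involution h.pg hS
  rcases h.fixed_invol hx hxx (hc t) with e | e
  · exact absurd e hx1
  · exact e ▸ hc g

theorem z_conj (h : Hyp S t r) (g : W) : g * (r * r) * g⁻¹ = r * r := by
  rw [h.z_central g, mul_inv_cancel_right]

theorem card_R (h : Hyp S t r) : Nat.card (zpowers r) = 4 := by rw [Nat.card_zpowers, h.r4]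

end Hyp

/-- `S` has a cyclic subgroup `⟨a⟩` of index two, with an involution outside inverting its
subgroup of order four. -/
structure MaxData (S : Subgroup W) (a b : W) (k : ℕ) : Prop where
  two_le : 2 ≤ k
  ord : orderOf a = 2 ^ k
  aS : a ∈ S
  anorm : ∀ g : W, g * a * g⁻¹ ∈ zpowers a
  bS : b ∈ S
  b_nmem : b ∉ zpowers a
  bb : b * b = 1
  cover : ∀ s ∈ S, s ∈ zpowers a ∨ b * s ∈ zpowers a
  inv4 : b * a ^ (2 ^ (k - 2)) * b = (a ^ (2 ^ (k - 2)))⁻¹

/-- A four-group normal in the whole group and centralised by `r`. -/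
structure FourData (S : Subgroup W) (r v : W) : Prop where
  vS : v ∈ S
  vv : v * v = 1
  v1 : v ≠ 1
  vz : v ≠ r * r
  rv : r * v = v * r
  vnorm : ∀ g : W, g * v * g⁻¹ = v ∨ g * v * g⁻¹ = v * (r * r)

variable [Finite W]

/-- A fixed point argument modulo a normal four-group not centralised by `r`. -/
theorem maxData_of_four (h : Hyp S t r) {v : W} (vS : v ∈ S) (vv : v * v = 1) (v1 : v ≠ 1)
    (vz : v ≠ r * r) (hv : ∀ g : W, g * v * g⁻¹ = v ∨ g * v * g⁻¹ = v * (r * r))
    (hrv : ¬ r * v = v * r) : MaxData S r v 2 := by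
  have hzc := h.z_central
  have hzz := h.zz
  have htv : t * v * t = v * (r * r) := by
    rcases hv t with e | e
    · rw [h.ti] at e
      rcases h.fixed_invol vS vv (fixed_of_inverted h.tt vv (by rw [e]; exact (inv_eq_of_mul_eq_one_right vv).symm)) with e' | e'
      · exact absurd e' v1
      · exact absurd e' vz
    · rwa [h.ti] at e
  have hrv' : r * v * r⁻¹ = v * (r * r) := (hv r).resolve_left fun e => hrv (mul_inv_eq_iff_eq_mul.1 e)
  let T₀ : Subgroup W := S ⊓ centralizer ({v} : Set W)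
  haveI := h.norm
  haveI hT₀ : T₀.Normal := by
    refine ⟨fun x hx g => ⟨h.norm.conj_mem x hx.1 g, mem_centralizer_singleton_iff.2 ?_⟩⟩
    have hxv : x * v = v * x := mem_centralizer_singleton_iff.1 hx.2
    rcases hv g⁻¹ with e | e <;> rw [inv_inv] at e
    all_goals
      have hxe : x * (g⁻¹ * v * g) = (g⁻¹ * v * g) * x := by
        rw [e]
        first
          | exact hxv
          | rw [← mul_assoc, hxv, mul_assoc, hzc x, ← mul_assoc]
      calc g * x * g⁻¹ * v = g * (x * (g⁻¹ * v * g)) * g⁻¹ := by group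
        _ = v * (g * x * g⁻¹) := by rw [hxe]; group
  have hvz : v * (r * r) = r * r * v := hzc v
  let V₀ : Subgroup W := fourGroup (r * r) v hzz vv hvz
  have hmem : ∀ x, x ∈ V₀ ↔ x = 1 ∨ x = r * r ∨ x = v ∨ x = v * (r * r) := fun x => Iff.rfl
  haveI hV₀ : V₀.Normal := by
    refine ⟨fun x hx g => ?_⟩
    rw [hmem] at hx ⊢
    rcases hx with rfl | rfl | rfl | rfl
    · left; group
    · right; left; exact h.z_conj g
    · rcases hv g with e | e <;> simp [e]
    · rw [show g * (v * (r * r)) * g⁻¹ = (g * v * g⁻¹) * (g * (r * r) * g⁻¹) by group, h.z_conj g]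
      rcases hv g with e | e <;> rw [e]
      · simp
      · rw [mul_assoc v (r * r) (r * r), hzz, mul_one]; simp
  have hle : V₀ ≤ T₀ := by
    intro x hx
    refine mem_inf.2 ⟨?_, mem_centralizer_singleton_iff.2 ?_⟩
    · rcases (hmem x).1 hx with rfl | rfl | rfl | rfl
      exacts [one_mem _, mul_mem h.rS h.rS, vS, mul_mem vS (mul_mem h.rS h.rS)]
    · rcases (hmem x).1 hx with rfl | rfl | rfl | rfl
      · rw [one_mul, mul_one]
      · exact hvz.symm
      · rfl
      · rw [mul_assoc, ← hvz]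
  have hTV : T₀ ≤ V₀ := by
    by_contra hne
    obtain ⟨x, hxT, hxV, -, hc⟩ := exists_step h.pg (M := V₀) (N := T₀)
      (lt_of_le_of_ne hle fun e => hne e.ge)
    have hxS := (mem_inf.1 hxT).1
    have hxv : x * v = v * x := mem_centralizer_singleton_iff.1 (mem_inf.1 hxT).2
    have hf : twist t x ∈ V₀ := by
      have h1 := hV₀.conj_mem _ (hc t) x⁻¹
      rw [h.ti] at h1
      rwa [show x⁻¹ * (t * x * t * x⁻¹) * x⁻¹⁻¹ = twist t x by simp only [twist]; group] at h1
    have hrT : ∀ y ∈ zpowers r, y * v = v * y → y ∈ V₀ := by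
      intro y hy hyv
      rcases h.r_cases hy with rfl | rfl | rfl | rfl
      · exact one_mem _
      · exact absurd hyv hrv
      · exact (hmem _).2 (Or.inr (Or.inl rfl))
      · refine absurd ?_ hrv
        have h5 : r * r * (r * v) = r * r * (v * r) := by
          calc r * r * (r * v) = r * r * r * v := by group
            _ = v * (r * r * r) := hyv
            _ = v * (r * r) * r := by group
            _ = _ := by rw [hvz]; group
        exact mul_left_cancel h5
    have hinvf := twist_inverted h.tt x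
    rcases (hmem _).1 hf with e | e | e | e
    · exact hxV (hrT x (h.fix x hxS ((twist_eq_one_iff h.tt).1 e)) hxv)
    · have hfv : twist t v = r * r := by rw [twist, htv, inv_mul_cancel_left]
      have h6 := hrT _ (h.fix _ (mul_mem vS (inv_mem hxS)) (fixed_of_twist_eq h.tt (e.trans hfv.symm))) (by
        rw [mul_assoc, show x⁻¹ * v = v * x⁻¹ from
          (Commute.inv_left (show Commute x v from hxv)).eq])
      exact hxV ((Subgroup.inv_mem_iff V₀).1 ((V₀.mul_mem_cancel_left ((hmem v).2 (by simp))).1 h6))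
    · rw [e, htv, inv_eq_of_mul_eq_one_right vv] at hinvf
      exact h.r_pow.1 (mul_eq_left.1 hinvf)
    · rw [e, mul_inv_rev, inv_eq_of_mul_eq_one_right hzz, inv_eq_of_mul_eq_one_right vv, ← hvz,
        show t * (v * (r * r)) * t = t * v * ((r * r) * t) by group, ← hzc t,
        show t * v * (t * (r * r)) = (t * v * t) * (r * r) by group, htv, mul_assoc v,
        hzz, mul_one, left_eq_mul] at hinvf
      exact h.r_pow.1 hinvf
  have hS : ∀ s ∈ S, s ∈ V₀ ∨ r⁻¹ * s ∈ V₀ := by
    intro s hs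
    rcases hv s with e | e
    · exact Or.inl (hTV ⟨hs, mem_centralizer_singleton_iff.2 (mul_inv_eq_iff_eq_mul.1 e)⟩)
    · refine Or.inr (hTV ⟨S.mul_mem (S.inv_mem h.rS) hs, mem_centralizer_singleton_iff.2 ?_⟩)
      rw [← mul_inv_eq_iff_eq_mul]
      calc r⁻¹ * s * v * (r⁻¹ * s)⁻¹ = r⁻¹ * (s * v * s⁻¹) * r := by group
        _ = r⁻¹ * (r * v * r⁻¹) * r := by rw [e, hrv']
        _ = v := by group
  have hvr : v * r * v = r⁻¹ := by
    have h1 : r * v = v * (r * r) * r := mul_inv_eq_iff_eq_mul.1 hrv'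
    have h3 : r⁻¹ = r * r * r := inv_eq_of_mul_eq_one_left h.r_pow.2.1
    rw [mul_assoc, h1, h3, ← mul_assoc v, ← mul_assoc v, vv, one_mul]
  have hnmem : v ∉ zpowers r := fun hm => by
    obtain ⟨i, hi⟩ := mem_zpowers_iff.1 hm
    exact hrv (by rw [← hi]; exact (Commute.self_zpow r i).eq)
  refine ⟨le_rfl, by rw [h.r4]; norm_num, h.rS, fun g => ?_, vS, hnmem, vv, fun s hs => ?_,
    by simpa using hvr⟩
  · have hg := h.norm.conj_mem r h.rS g
    have hord : g * r * g⁻¹ * (g * r * g⁻¹) ≠ 1 := fun e => h.r_pow.1 (by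
      rw [← conj_sq] at e; exact conj_eq_one_iff.1 e)
    rcases hS _ hg with e | e
    · refine absurd ?_ hord
      rcases (hmem _).1 e with e | e | e | e <;> rw [e]
      · exact one_mul 1
      · exact hzz
      · exact vv
      · calc v * (r * r) * (v * (r * r)) = v * (r * r * v) * (r * r) := by group
          _ = v * (v * (r * r)) * (r * r) := by rw [hvz]
          _ = (v * v) * ((r * r) * (r * r)) := by group
          _ = 1 := by rw [vv, hzz, one_mul]
    · have hsq : r * v * (r * v) = 1 := by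
        rw [show r * v * (r * v) = r * (v * r * v) by group, hvr, mul_inv_cancel]
      rcases (hmem _).1 e with e | e | e | e <;> rw [inv_mul_eq_iff_eq_mul] at e <;> rw [e]
      · rw [mul_one]; exact mem_zpowers r
      · exact mul_mem (mem_zpowers r) (mul_mem (mem_zpowers r) (mem_zpowers r))
      · exact absurd (by rw [e]; exact hsq) hord
      · refine absurd ?_ hord
        rw [e]
        calc r * (v * (r * r)) * (r * (v * (r * r))) = r * v * ((r * r) * (r * v)) * (r * r) := by group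
          _ = r * v * (r * v * (r * r)) * (r * r) := by rw [hzc (r * v)]
          _ = (r * v * (r * v)) * ((r * r) * (r * r)) := by group
          _ = 1 := by rw [hsq, hzz, one_mul]
  · have hsm : ∀ i ∈ zpowers r, v * i * v ∈ zpowers r := fun i hi => by
      obtain ⟨j, rfl⟩ := mem_zpowers_iff.1 hi
      have := conj_pow_of (g := v) (a := r) (e := -1)
        (by rw [inv_eq_of_mul_eq_one_right vv, zpow_neg_one]; exact hvr) j
      rw [inv_eq_of_mul_eq_one_right vv] at this
      rw [this]; exact zpow_mem (mem_zpowers r) _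
    rcases hS s hs with e | e <;> rcases (hmem _).1 e with e | e | e | e
    · left; rw [e]; exact one_mem _
    · left; rw [e]; exact mul_mem (mem_zpowers r) (mem_zpowers r)
    · right; rw [e, vv]; exact one_mem _
    · right; rw [e, ← mul_assoc, vv, one_mul]; exact mul_mem (mem_zpowers r) (mem_zpowers r)
    all_goals rw [inv_mul_eq_iff_eq_mul] at e
    · left; rw [e, mul_one]; exact mem_zpowers r
    · left; rw [e]; exact mul_mem (mem_zpowers r) (mul_mem (mem_zpowers r) (mem_zpowers r))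
    · right; rw [e, ← mul_assoc]; exact hsm r (mem_zpowers r)
    · right
      rw [e, show v * (r * (v * (r * r))) = v * r * v * (r * r) by group]
      exact mul_mem (hsm r (mem_zpowers r)) (mul_mem (mem_zpowers r) (mem_zpowers r))

/-- Either a four-group case or a maximal class case, if `S` has a further involution. -/
theorem dichotomy (h : Hyp S t r) {x : W} (hx : x ∈ S) (hxx : x * x = 1) (hx1 : x ≠ 1)
    (hxz : x ≠ r * r) : (∃ v, FourData S r v) ∨ ∃ a b k, MaxData S a b k := by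
  haveI := h.norm
  haveI : Fact (Nat.Prime 2) := ⟨Nat.prime_two⟩
  have hzc := h.z_central
  by_cases hex : ∃ v ∈ S, v * v = 1 ∧ v ≠ 1 ∧ v ≠ r * r ∧
      ∀ g : W, g * v * g⁻¹ = v ∨ g * v * g⁻¹ = v * (r * r)
  · obtain ⟨v, vS, vv, v1, vz, hv⟩ := hex
    by_cases hrv : r * v = v * r
    · exact Or.inl ⟨v, vS, vv, v1, vz, hrv, hv⟩
    · exact Or.inr ⟨r, v, 2, maxData_of_four h vS vv v1 vz hv hrv⟩
  right
  push Not at hex
  obtain ⟨B, hBn, hBS, hBc, hBself⟩ := exists_max_abelian h.pg S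
  haveI := hBn
  have hone : ∀ y ∈ B, y * y = 1 → y = 1 ∨ y = r * r := by
    let Ω : Subgroup W :=
      { carrier := {y | y ∈ B ∧ y * y = 1}
        one_mem' := ⟨B.one_mem, one_mul 1⟩
        mul_mem' := fun {a b} ha hb => ⟨B.mul_mem ha.1 hb.1, by
          calc a * b * (a * b) = a * (b * a) * b := by group
            _ = (a * a) * (b * b) := by rw [hBc b hb.1 a ha.1]; group
            _ = 1 := by rw [ha.2, hb.2, one_mul]⟩
        inv_mem' := fun {a} ha => ⟨B.inv_mem ha.1, by rw [← mul_inv_rev, ha.2, inv_one]⟩ }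
    haveI : Ω.Normal := ⟨fun y hy g => ⟨hBn.conj_mem y hy.1 g, by rw [← conj_sq, hy.2]; group⟩⟩
    intro y hy hyy
    by_contra hne
    push Not at hne
    have hΩ : Ω ≠ ⊥ := fun e => hne.1 (by
      have : y ∈ Ω := ⟨hy, hyy⟩
      rw [e] at this; exact mem_bot.1 this)
    have hzΩ := h.z_mem_normal (B := Ω) (fun u hu => hBS hu.1) hΩ
    let Z : Subgroup W := zpowers (r * r)
    haveI : Z.Normal := ⟨fun u hu g => by
      obtain ⟨i, rfl⟩ := mem_zpowers_iff.1 hu
      rw [← conj_zpow, h.z_conj g]; exact zpow_mem (mem_zpowers _) _⟩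
    have hZc : ∀ u ∈ Z, u = 1 ∨ u = r * r := fun u hu => by
      obtain ⟨i, rfl⟩ := mem_zpowers_iff.1 hu
      rcases Int.even_or_odd i with ⟨j, rfl⟩ | ⟨j, rfl⟩
      · left; rw [← two_mul, zpow_mul, zpow_two, h.zz, one_zpow]
      · right; rw [zpow_add, zpow_mul, zpow_two, h.zz, one_zpow, one_mul, zpow_one]
    have hlt : Z < Ω := lt_of_le_of_ne (zpowers_le.2 hzΩ) fun e => by
      have hy' : y ∈ Z := by rw [e]; exact ⟨hy, hyy⟩
      rcases hZc y hy' with e' | e'
      exacts [hne.1 e', hne.2 e']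
    obtain ⟨v, hvΩ, hvZ, -, hvc⟩ := exists_step h.pg hlt
    obtain ⟨g, hg1, hg2⟩ := hex v (hBS hvΩ.1) hvΩ.2 (fun e => hvZ (e ▸ one_mem _))
      (fun e => hvZ (e ▸ mem_zpowers _))
    rcases hZc _ (hvc g) with e | e
    · exact hg1 (mul_inv_eq_one.1 e)
    · exact hg2 (by rw [mul_inv_eq_iff_eq_mul] at e; rw [e, hzc v])
  obtain ⟨a, ha⟩ := exists_gen h.pg hBc hone
  subst ha
  have haS : a ∈ S := hBS (mem_zpowers a)
  have hself : ∀ s ∈ S, s * a = a * s → s ∈ zpowers a := fun s hs hsa =>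
    hBself s hs fun b hb => by
      obtain ⟨i, rfl⟩ := mem_zpowers_iff.1 hb
      exact Commute.zpow_right hsa i
  have hnorm : ∀ g : W, g * a * g⁻¹ ∈ zpowers a := fun g => hBn.conj_mem a (mem_zpowers a) g
  have hexp : ∀ g : W, ∃ e : ℤ, g * a * g⁻¹ = a ^ e := fun g => by
    obtain ⟨e, he⟩ := mem_zpowers_iff.1 (hnorm g); exact ⟨e, he.symm⟩
  obtain ⟨ε, hε⟩ := hexp t
  rw [h.ti] at hε
  obtain ⟨k, hk⟩ := IsPGroup.iff_orderOf.1 h.pg a
  have hxn : x ∉ zpowers a := fun hxa => by
    rcases hone x hxa hxx with e | e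
    exacts [hx1 e, hxz e]
  have hk2 : 2 ≤ k := by
    by_contra hlt
    have haa : a * a = 1 := by
      rw [← pow_two, ← orderOf_dvd_iff_pow_eq_one, hk]
      exact (Nat.pow_dvd_pow 2 (show k ≤ 1 by omega)).trans (by norm_num)
    refine hxn (hself x hx ?_)
    rcases hone a (mem_zpowers a) haa with e | e <;> rw [e]
    · rw [mul_one, one_mul]
    · exact hzc x
  obtain ⟨q, hq⟩ : ∃ q : ℤ, (2 : ℤ) ^ k = 4 * q ∧ ((2 ^ (k - 2) : ℕ) : ℤ) = q :=
    ⟨2 ^ (k - 2), by rw [show (4 : ℤ) = 2 ^ 2 by norm_num, ← pow_add]; congr 1; omega, by push_cast; rfl⟩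
  obtain ⟨hq, hqn⟩ := hq
  have hq0 : q ≠ 0 := fun h0 => by rw [h0, mul_zero] at hq; exact (pow_ne_zero k two_ne_zero) hq
  have hq4 : ∀ g : W, g * a ^ q * g⁻¹ = a ^ q ∨ g * a ^ q * g⁻¹ = (a ^ q)⁻¹ := by
    intro g
    obtain ⟨e, he⟩ := hexp g
    rw [conj_pow_of he]
    rcases (by omega : e % 4 = 0 ∨ e % 4 = 2 ∨ e % 4 = 1 ∨ e % 4 = 3) with h' | h' | h' | h'
    iterate 2
      exfalso
      obtain ⟨m, rfl⟩ : ∃ m, e = 2 * m := ⟨e / 2, by omega⟩
      have h1 := conj_pow_of he (2 * q)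
      rw [show a ^ (2 * m * (2 * q)) = 1 by
        rw [← zpow_zero a, zpow_eq_iff hk]; exact ⟨-m, by rw [hq]; ring⟩, conj_eq_one_iff,
        ← zpow_zero a, zpow_eq_iff hk] at h1
      obtain ⟨c, hc⟩ := h1
      have : -2 = 4 * c := mul_left_cancel₀ hq0 (by linear_combination hc + c * hq)
      omega
    · left; rw [zpow_eq_iff hk]; exact ⟨-(e / 4), by
        rw [hq]; nth_rewrite 1 [show e = 4 * (e / 4) + 1 by omega]; ring⟩
    · right; rw [← zpow_neg, zpow_eq_iff hk]; exact ⟨-(e / 4) - 1, by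
        rw [hq]; nth_rewrite 1 [show e = 4 * (e / 4) + 3 by omega]; ring⟩
  -- elements centralising `a ^ q` lie in `⟨a⟩`
  let C : Subgroup W := S ⊓ centralizer ({a ^ q} : Set W)
  haveI hC : C.Normal := by
    refine ⟨fun y hy g => ⟨h.norm.conj_mem y hy.1 g, mem_centralizer_singleton_iff.2 ?_⟩⟩
    have hyv : y * a ^ q = a ^ q * y := mem_centralizer_singleton_iff.1 hy.2
    rcases hq4 g⁻¹ with e | e <;> rw [inv_inv] at e
    all_goals
      have hye : y * (g⁻¹ * a ^ q * g) = (g⁻¹ * a ^ q * g) * y := by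
        rw [e]
        first
          | exact hyv
          | exact (Commute.inv_right (show Commute y (a ^ q) from hyv)).eq
      calc g * y * g⁻¹ * a ^ q = g * (y * (g⁻¹ * a ^ q * g)) * g⁻¹ := by group
        _ = a ^ q * (g * y * g⁻¹) := by rw [hye]; group
  have hCle : C ≤ zpowers a := by
    by_contra hne
    have hle : zpowers a ≤ C := zpowers_le.2
      (mem_inf.2 ⟨haS, mem_centralizer_singleton_iff.2 (Commute.self_zpow a q).eq⟩)
    obtain ⟨s, hsC, hsa, hss, hscomm⟩ := exists_step h.pg (M := zpowers a) (N := C)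
      (lt_of_le_of_ne hle fun e => hne e.ge)
    have hsS := (mem_inf.1 hsC).1
    have hsc : s * a ^ q = a ^ q * s := mem_centralizer_singleton_iff.1 (mem_inf.1 hsC).2
    obtain ⟨η, hη⟩ := hexp s
    obtain ⟨l, hl⟩ := mem_zpowers_iff.1 hss
    -- `η ≡ 1` modulo four, and `η ≠ 1` modulo the order
    have h1 : (2 : ℤ) ^ k ∣ q - η * q := by
      rw [← zpow_eq_iff hk, ← conj_pow_of hη, hsc, mul_inv_cancel_right]
    obtain ⟨c, hc⟩ := h1
    have hη4 : 1 - η = 4 * c := mul_left_cancel₀ hq0 (by linear_combination hc + c * hq)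
    have h2 : (2 : ℤ) ^ k ∣ η * η - 1 := by
      have hh : s * s * a * (s * s)⁻¹ = a ^ (η * η) := by
        rw [show s * s * a * (s * s)⁻¹ = s * (s * a * s⁻¹) * s⁻¹ by group, hη, conj_pow_of hη]
      rw [← hl, show a ^ l * a * (a ^ l)⁻¹ = a by group] at hh
      conv_lhs at hh => rw [← zpow_one a]
      exact (zpow_eq_iff hk).1 hh
    have h3 : ¬ (2 : ℤ) ^ k ∣ 1 - η := fun hd => hsa (hself s hsS (by
      rw [← mul_inv_eq_iff_eq_mul, hη]
      conv_rhs => rw [← zpow_one a]
      exact (zpow_eq_iff hk).2 hd))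
    have h4 : (2 : ℤ) ^ k ∣ η * l - l := by
      rw [← zpow_eq_iff hk, ← conj_pow_of hη, hl]; group
    -- the square is an even power
    have hl2 : Even l := by
      rcases Int.even_or_odd l with he | ⟨u, hu⟩
      · exact he
      · refine absurd ?_ h3
        have hco : IsCoprime ((2 : ℤ) ^ k) l := by
          rw [hu]; exact (IsCoprime.pow_left ⟨-u, 1, by ring⟩)
        exact hco.dvd_of_dvd_mul_right (show (2 : ℤ) ^ k ∣ (1 - η) * l by
          rw [show (1 - η) * l = -(η * l - l) by ring]; exact dvd_neg.2 h4)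
    obtain ⟨l', hl'⟩ := hl2
    have hη' : s⁻¹ * a * s = a ^ η := by
      calc s⁻¹ * a * s = s⁻¹ * (s * s * a * (s * s)⁻¹) * s := by
            rw [← hl, show a ^ l * a * (a ^ l)⁻¹ = a by group]
        _ = s * a * s⁻¹ := by group
        _ = _ := hη
    obtain ⟨i, hi⟩ : ∃ i : ℤ, s * a ^ i * (s * a ^ i) = 1 := by
      obtain ⟨i, hi⟩ := exists_gen_zpow hk (u := 1 - 2 * c) ⟨-c, by ring⟩ (-l')
      rw [← zpow_mul, zpow_eq_iff hk] at hi
      obtain ⟨m, hm⟩ := hi
      refine ⟨i, ?_⟩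
      have hh := conj_pow_of (g := s⁻¹) (a := a) (e := η) (by rw [inv_inv]; exact hη') i
      rw [inv_inv] at hh
      rw [show s * a ^ i * (s * a ^ i) = (s * s) * (s⁻¹ * a ^ i * s) * a ^ i by group, hh, ← hl,
        ← zpow_add, ← zpow_add, ← zpow_zero a, zpow_eq_iff hk]
      exact ⟨2 * m, by linear_combination 2 * hm - hl' + i * hη4⟩
    -- this involution spans a normal four-group
    have hsi : s * a ^ i ∈ S := mul_mem hsS (zpow_mem haS i)
    have hs1 : s * a ^ i ∉ zpowers a := fun e =>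
      hsa (((zpowers a).mul_mem_cancel_right (zpow_mem (mem_zpowers a) i)).1 e)
    obtain ⟨g, hg1, hg2⟩ := hex (s * a ^ i) hsi hi (fun e => hs1 (e ▸ one_mem _))
      (fun e => hs1 (e ▸ (by
        obtain ⟨y, hy, hyy, hy1⟩ := exists_involution h.pg (B := zpowers a) (fun e' => by
          rw [zpowers_eq_bot] at e'; rw [e', orderOf_one] at hk
          exact absurd hk.symm (Nat.one_lt_two_pow (by omega)).ne')
        rcases hone y hy hyy with e'' | e''
        · exact absurd e'' hy1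
        · exact e'' ▸ hy)))
    have hmem : g * (s * a ^ i) * g⁻¹ * (s * a ^ i)⁻¹ ∈ zpowers a := by
      rw [show g * (s * a ^ i) * g⁻¹ * (s * a ^ i)⁻¹ =
        (g * s * g⁻¹ * s⁻¹) * (s * ((g * a ^ i * g⁻¹) * (a ^ i)⁻¹) * s⁻¹) by group]
      exact mul_mem (hscomm g) (hBn.conj_mem _ (mul_mem (hBn.conj_mem _ (zpow_mem (mem_zpowers a) i) g)
        (inv_mem (zpow_mem (mem_zpowers a) i))) s)
    obtain ⟨j, hj⟩ := mem_zpowers_iff.1 hmem
    -- `a ^ j` is fixed and inverted by the new involution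
    have e1 : g * (s * a ^ i) * g⁻¹ = a ^ j * (s * a ^ i) := by rw [hj, inv_mul_cancel_right]
    have e2 : a ^ j * (s * a ^ i) * (a ^ j * (s * a ^ i)) = 1 := by
      rw [← e1, ← conj_sq, hi]; group
    have e3 : (s * a ^ i) * a ^ j * (s * a ^ i)⁻¹ = a ^ (η * j) := by
      rw [show (s * a ^ i) * a ^ j * (s * a ^ i)⁻¹ = s * a ^ j * s⁻¹ by group, conj_pow_of hη]
    have e4 : a ^ (j + η * j) = a ^ (0 : ℤ) := by
      rw [zpow_add, zpow_zero, ← e3]
      calc a ^ j * ((s * a ^ i) * a ^ j * (s * a ^ i)⁻¹)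
          = (a ^ j * (s * a ^ i) * (a ^ j * (s * a ^ i))) * ((s * a ^ i) * (s * a ^ i))⁻¹ := by group
        _ = 1 := by rw [e2, hi, inv_one, mul_one]
    rw [zpow_eq_iff hk] at e4
    have e5 : (2 : ℤ) ^ k ∣ 2 * j := by
      have hco : IsCoprime ((2 : ℤ) ^ k) (1 - 2 * c) := IsCoprime.pow_left ⟨c, 1, by ring⟩
      refine hco.dvd_of_dvd_mul_right ?_
      obtain ⟨m, hm⟩ := e4
      exact ⟨-m, by linear_combination -hm + j * hη4⟩
    have e6 : a ^ j * a ^ j = 1 := by
      rw [← zpow_add, ← zpow_zero a, zpow_eq_iff hk, zero_sub, ← two_mul]; exact dvd_neg.2 e5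
    rcases hone _ (zpow_mem (mem_zpowers a) j) e6 with e | e
    · exact hg1 (by rw [e1, e, one_mul])
    · exact hg2 (by rw [e1, e, hzc])
  have hinv : ∀ s ∈ S, s ∉ zpowers a → s * a ^ q * s⁻¹ = (a ^ q)⁻¹ := fun s hs hsa =>
    (hq4 s).resolve_left fun e => hsa (hCle ⟨hs, mem_centralizer_singleton_iff.2 (mul_inv_eq_iff_eq_mul.1 e)⟩)
  have hxi : x⁻¹ = x := inv_eq_of_mul_eq_one_right hxx
  refine ⟨a, x, k, hk2, hk, haS, hnorm, hx, hxn, hxx, fun s hs => ?_, ?_⟩
  · by_contra hc'
    push Not at hc'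
    refine hc'.2 (hCle (mem_inf.2 ⟨mul_mem hx hs, mem_centralizer_singleton_iff.2 ?_⟩))
    rw [← mul_inv_eq_iff_eq_mul]
    calc x * s * a ^ q * (x * s)⁻¹ = x * (s * a ^ q * s⁻¹) * x⁻¹ := by group
      _ = _ := by rw [hinv s hs hc'.1, ← conj_inv, hinv x hx hxn, inv_inv]
  · have := hinv x hx hxn
    rw [hxi, ← hqn, zpow_natCast] at this
    exact this

end Cfsg.Agent.Invol.CycFour
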