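import Mathlib
import Cfsg.Agent.Lib.Invol.Transfer2

/-!
# Transfer into a quotient with one involution
-/

set_option autoImplicit false

namespace Cfsg.Agent.Invol.CycFour

open Subgroup

universe u

variable {G : Type u} [Group G] [Finite G]

/-- The quotient of `P` by a normal subgroup containing the commutators. -/
theorem exists_hom (P M : Subgroup G) (hM : M ≤ P) (hc : ∀ x ∈ P, ∀ y ∈ P, x * y * x⁻¹ * y⁻¹ ∈ M) :
    ∃ (A : Type u) (_ : CommGroup A) (φ : P →* A), Function.Surjective φ ∧ ∀ x : P, φ x = 1 ↔ (x : G) ∈ M := by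
  haveI : (M.subgroupOf P).Normal := ⟨fun x hx g => by
    rw [mem_subgroupOf] at hx ⊢
    have := M.mul_mem (hc g g.2 x x.2) hx
    simpa using this⟩
  letI : CommGroup (P ⧸ M.subgroupOf P) :=
    { (inferInstance : Group (P ⧸ M.subgroupOf P)) with
      mul_comm := fun x y => by
        obtain ⟨x, rfl⟩ := QuotientGroup.mk'_surjective _ x
        obtain ⟨y, rfl⟩ := QuotientGroup.mk'_surjective _ y
        rw [← mul_inv_eq_one, ← map_mul, ← map_mul, ← map_inv, ← map_mul]
        refine (QuotientGroup.eq_one_iff _).2 ?_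
        rw [mem_subgroupOf]
        have := hc x x.2 y y.2
        simp only [Subgroup.coe_mul, Subgroup.coe_inv, mul_inv_rev]
        rwa [← mul_assoc] }
  exact ⟨_, inferInstance, QuotientGroup.mk' (M.subgroupOf P), QuotientGroup.mk'_surjective _,
    fun x => (QuotientGroup.eq_one_iff x).trans mem_subgroupOf⟩

/-- An involution killed by all homomorphisms to abelian groups has evenly many fixed cosets
with conjugate outside `M`. -/
theorem even_outside (P M : Subgroup G) (hM : M ≤ P) (hc : ∀ x ∈ P, ∀ y ∈ P, x * y * x⁻¹ * y⁻¹ ∈ M)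
    {v : G} (hvP : v ∈ P) (hvv : v * v ∈ M) (hvM : v ∉ M)
    (hu : ∀ x ∈ P, x * x ∈ M → x ∈ M ∨ x * v ∈ M)
    {a w : G} (huu : a * a = 1) (hww : w * w = 1)
    (hkill : ∀ (A : Type u) [CommGroup A] (f : G →* A), f a = f w)
    (hw : ∀ x : G, x⁻¹ * w * x ∈ P → x⁻¹ * w * x ∈ M) :
    Even (Nat.card {q : G ⧸ P // ∃ x : G, QuotientGroup.mk x = q ∧ x⁻¹ * a * x ∈ P ∧ x⁻¹ * a * x ∉ M}) := by
  classical
  obtain ⟨A, _, φ, hφs, hφ⟩ := exists_hom P M hM hc
  haveI := Fintype.ofFinite (G ⧸ P)
  haveI : P.FiniteIndex := inferInstance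
  have hι : orderOf (φ ⟨v, hvP⟩) = 2 := orderOf_eq_prime
    (by rw [← map_pow, hφ]; simpa [pow_two] using hvv) fun e => hvM ((hφ _).1 e)
  have huniq : ∀ a : A, orderOf a = 2 → a = φ ⟨v, hvP⟩ := by
    intro a ha
    obtain ⟨x, rfl⟩ := hφs a
    have hxx : (x : G) * x ∈ M := by
      have := pow_orderOf_eq_one (φ x)
      rw [ha, ← map_pow, hφ] at this
      simpa [pow_two] using this
    rcases hu x x.2 hxx with e | e
    · rw [(hφ x).2 e, orderOf_one] at ha; omega
    · have h1 : φ (x * ⟨v, hvP⟩) = 1 := (hφ _).2 e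
      rw [map_mul, mul_eq_one_iff_eq_inv] at h1
      rw [h1, inv_eq_of_mul_eq_one_right]
      rw [← map_mul, hφ]; exact hvv
  have htr : MonoidHom.transfer φ a = 1 := by
    rw [hkill A (MonoidHom.transfer φ), transfer_involution φ hww]
    refine Finset.prod_eq_one fun q _ => ?_
    split_ifs with h
    · exact (hφ _).2 (hw _ h)
    · rfl
  have h := even_card_of_transfer_eq_one φ huu htr hι huniq
  refine Eq.mpr (congrArg Even (Nat.card_congr (Equiv.subtypeEquivRight fun q => ?_))) h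
  refine exists_congr fun x => and_congr_right fun _ => ?_
  constructor
  · exact fun ⟨h1, h2⟩ => ⟨h1, fun e => h2 ((hφ _).1 e)⟩
  · exact fun ⟨h1, h2⟩ => ⟨h1, fun e => h2 ((hφ _).2 e)⟩

/-- The orbit of the base coset under a subgroup with Sylow 2-subgroup inside `P` is odd. -/
theorem odd_orbit (P C : Subgroup G) (hP : IsPGroup 2 P)
    (hmax : ∀ R : Subgroup G, IsPGroup 2 R → R ≤ C → Nat.card R ≤ Nat.card ↥(P ⊓ C)) :
    Odd (Nat.card {q : G ⧸ P // ∃ g ∈ C, QuotientGroup.mk g = q}) := by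
  classical
  haveI : Fact (Nat.Prime 2) := ⟨Nat.prime_two⟩
  have hPC : IsPGroup 2 ↥(P.subgroupOf C) := hP.comap_of_injective C.subtype C.subtype_injective
  obtain ⟨T, hT⟩ := hPC.exists_le_sylow
  have hc : Nat.card ↥(P.subgroupOf C) = Nat.card ↥(P ⊓ C) := by
    rw [← inf_subgroupOf_right, Nat.card_congr (Subgroup.subgroupOfEquivOfLe inf_le_right).toEquiv]
  have hTc : Nat.card T ≤ Nat.card ↥(P.subgroupOf C) := by
    rw [hc, ← Subgroup.card_map_of_injective C.subtype_injective]
    exact hmax _ (T.isPGroup'.map C.subtype) (Subgroup.map_subtype_le _)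
  have hTe : P.subgroupOf C = (T : Subgroup C) := Subgroup.eq_of_le_of_card_ge hT hTc
  let e : C ⧸ P.subgroupOf C → {q : G ⧸ P // ∃ g ∈ C, QuotientGroup.mk g = q} :=
    Quotient.lift (fun g : C => ⟨QuotientGroup.mk (g : G), g, g.2, rfl⟩) (by
      intro a b hab
      replace hab : a⁻¹ * b ∈ P.subgroupOf C := QuotientGroup.leftRel_apply.1 hab
      exact Subtype.ext (QuotientGroup.eq.2 hab))
  have he : Function.Bijective e := by
    constructor
    · intro x y
      refine QuotientGroup.induction_on x fun a => QuotientGroup.induction_on y fun b hab => ?_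
      have : (QuotientGroup.mk (a : G) : G ⧸ P) = QuotientGroup.mk (b : G) := congrArg Subtype.val hab
      exact QuotientGroup.eq.2 ((QuotientGroup.eq (s := P)).1 this : (a : G)⁻¹ * (b : G) ∈ P)
    · rintro ⟨q, g, hg, rfl⟩
      exact ⟨QuotientGroup.mk ⟨g, hg⟩, rfl⟩
  rw [← Nat.card_eq_of_bijective e he, ← Subgroup.index_eq_card, hTe, Nat.odd_iff, ← Nat.two_dvd_ne_zero]
  exact T.not_dvd_index

end Cfsg.Agent.Invol.CycFour
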